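import Groth.Agent.KunnethLib.Filtration
import Groth.Agent.S3527

/-!
# The Künneth map of complexes with flat cohomology is bijective
-/

set_option autoImplicit false

universe u

open CategoryTheory CategoryTheory.Limits MonoidalCategory
open scoped TensorProduct DirectSum

namespace Groth.Agent.KunnethLib

variable {A : Type u} [CommRing A] (L M : DRing.Cx A)

lemma pc_sndN_cycle (k : ℤ) (w : Z (Next M) k) :
    pc M k (k + 1) rfl (sndN M k (w : (Next M).X k)) = 0 := by
  have h0 := congrArg (fstN M (k + 1)) (LinearMap.mem_ker.1 w.2)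
  rw [fstN_d, map_zero] at h0
  rw [pc_rfl, LinearMap.comp_apply, zcl_eq_zero_iff' _ _ k rfl]
  exact ⟨- fstN M k (w : (Next M).X k), by rw [map_neg]; exact neg_eq_of_add_eq_zero_right h0⟩

/-- Projecting from the free modules to the Künneth sum. -/
noncomputable def redMap (n N : ℤ) (hN : n + 1 = N) : PsiSrc L M n →ₗ[A] HTor.KunnethSum L M N :=
  DirectSum.toModule A (HTor.Antidiag n) _ fun ik =>
    DirectSum.lof A (HTor.Antidiag N) (fun ij => L.homology ij.1.1 ⊗[A] M.homology ij.1.2)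
      ⟨(ik.1.1, ik.1.2 + 1), by have := ik.2; omega⟩ ∘ₗ (pc M ik.1.2 (ik.1.2 + 1) rfl).lTensor _

lemma redMap_lof (n N : ℤ) (hN : n + 1 = N) (ik : HTor.Antidiag n)
    (x : L.homology ik.1.1 ⊗[A] FP M ik.1.2) :
    redMap L M n N hN (DirectSum.lof A (HTor.Antidiag n)
        (fun ik => L.homology ik.1.1 ⊗[A] FP M ik.1.2) ik x) =
      DirectSum.lof A (HTor.Antidiag N) (fun ij => L.homology ij.1.1 ⊗[A] M.homology ij.1.2)
        ⟨(ik.1.1, ik.1.2 + 1), by have := ik.2; omega⟩ ((pc M ik.1.2 (ik.1.2 + 1) rfl).lTensor _ x) :=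
  DirectSum.toModule_lof _ _ _

lemma kunneth_redMap (n N : ℤ) (hN : n + 1 = N) (e : PsiSrc L M n) :
    kunneth L M N (redMap L M n N hN e) = psiTot L M n N hN e := by
  induction e using DirectSum.induction_on with
  | zero => simp
  | add x y hx hy => rw [map_add, map_add, map_add, hx, hy]
  | of ik x =>
    rw [← DirectSum.lof_eq_of A, redMap_lof, psiTot_lof, kunneth, DirectSum.toModule_lof]
    rfl

lemma redMap_surjective (n N : ℤ) (hN : n + 1 = N) : Function.Surjective (redMap L M n N hN) := by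
  intro f
  induction f using DirectSum.induction_on with
  | zero => exact ⟨0, map_zero _⟩
  | add x y hx hy =>
    obtain ⟨a, rfl⟩ := hx
    obtain ⟨b, rfl⟩ := hy
    exact ⟨a + b, map_add _ _ _⟩
  | of ij x =>
    obtain ⟨⟨i, j⟩, hij⟩ := ij
    obtain ⟨k, rfl⟩ : ∃ k, j = k + 1 := ⟨j - 1, by omega⟩
    obtain ⟨x', hx'⟩ := LinearMap.lTensor_surjective (L.homology i) (pc_surjective M k (k + 1) rfl) x
    refine ⟨DirectSum.lof A (HTor.Antidiag n) (fun ik => L.homology ik.1.1 ⊗[A] FP M ik.1.2)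
      ⟨(i, k), by omega⟩ x', ?_⟩
    rw [redMap_lof, hx', DirectSum.lof_eq_of]

lemma exists_lift (n : ℤ) (e : PsiSrc L M n) :
    ∃ (s : (HTor.tensorCx L (Next M)).X n) (r : Z (HTor.tensorCx L M) (n + 1)),
      ((HTor.tensorCx L (Next M)).d n (n + 1)).hom s = incT L M (n + 1) (r : (HTor.tensorCx L M).X (n + 1)) ∧
      zcl _ (n + 1) r = psiTot L M n (n + 1) rfl e ∧
      ∀ ik : HTor.Antidiag n, ∃ w : Z L ik.1.1 ⊗[A] FP M ik.1.2,
        ztens L M _ _ w = pr L M ik.1.1 ik.1.2 n ik.2 s ∧ (zcl L ik.1.1).rTensor _ w = sgn ik.1.1 • e ik := by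
  classical
  induction e using DirectSum.induction_on with
  | zero => exact ⟨0, 0, by simp, by simp, fun ik => ⟨0, by simp, by simp⟩⟩
  | add x y hx hy =>
    obtain ⟨s, r, h1, h2, h3⟩ := hx
    obtain ⟨s', r', h1', h2', h3'⟩ := hy
    refine ⟨s + s', r + r', ?_, ?_, fun ik => ?_⟩
    · rw [map_add, h1, h1', ← map_add]; rfl
    · rw [map_add, h2, h2', map_add]
    · obtain ⟨w, hw, hw'⟩ := h3 ik
      obtain ⟨v, hv, hv'⟩ := h3' ik
      exact ⟨w + v, by rw [map_add, map_add, hw, hv], by rw [map_add, hw', hv', DirectSum.add_apply, smul_add]⟩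
  | of ik x =>
    obtain ⟨⟨i, k⟩, hik⟩ := ik
    induction x with
    | zero => exact ⟨0, 0, by simp, by simp, fun ik => ⟨0, by simp, by simp⟩⟩
    | add x y hx hy =>
      obtain ⟨s, r, h1, h2, h3⟩ := hx
      obtain ⟨s', r', h1', h2', h3'⟩ := hy
      refine ⟨s + s', r + r', ?_, ?_, fun ik => ?_⟩
      · rw [map_add, h1, h1', ← map_add]; rfl
      · rw [map_add, h2, h2', map_add, map_add]
      · obtain ⟨w, hw, hw'⟩ := h3 ik
        obtain ⟨v, hv, hv'⟩ := h3' ik
        exact ⟨w + v, by rw [map_add, map_add, hw, hv],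
          by rw [map_add, hw', hv', map_add, DirectSum.add_apply, smul_add]⟩
    | tmul a y =>
      obtain ⟨z, rfl⟩ := zcl_surjective L i a
      refine ⟨sgn i • tι L (Next M) i k n hik ((z : L.X i) ⊗ₜ mkN M k (0, y)),
        zpair L M i (k + 1) (n + 1) (by omega) z (φ M k y), ?_, ?_, ?_⟩
      · rw [map_zsmul, d_tι, LinearMap.mem_ker.1 z.2, TensorProduct.zero_tmul, map_zero, zero_add,
          sgn_smul_sgn_smul, next_d, fstN_mkN, sndN_mkN, nextD_apply, map_zero, zero_add]
        exact (incT_tι L M i (k + 1) (n + 1) (by omega) z (φX M k y)).symm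
      · rw [← DirectSum.lof_eq_of A, psiTot_lof, psi_tmul]
      · rintro ⟨⟨i', k'⟩, hik'⟩
        by_cases hi : i' = i
        · subst hi
          obtain rfl : k' = k := by omega
          refine ⟨sgn i' • (z ⊗ₜ y), ?_, ?_⟩
          · simp [ztens, pr]
          · rw [map_zsmul, DirectSum.of_eq_same]
            rfl
        · refine ⟨0, ?_, ?_⟩
          · simp [pr, tproj_tι_ne _ _ _ _ _ _ _ (Ne.symm hi)]
          · rw [DirectSum.of_eq_of_ne _ _ _ (fun heq => hi (congrArg (fun p : HTor.Antidiag n => p.1.1) heq))]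
            simp

lemma lTensor_pc_rho_kunneth (i k n : ℤ) (h : i + k = n) (f : HTor.KunnethSum L (Next M) n) :
    (pc M k (k + 1) rfl).lTensor (L.homology i) (rho L M i k n h (kunneth L (Next M) n f)) = 0 := by
  induction f using DirectSum.induction_on with
  | zero => simp
  | add x y hx hy => rw [map_add, map_add, map_add, hx, hy, add_zero]
  | of ij x =>
    obtain ⟨⟨i', j⟩, hij⟩ := ij
    rw [← DirectSum.lof_eq_of A, kunneth, DirectSum.toModule_lof]
    induction x with
    | zero => simp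
    | add x y hx hy => rw [map_add, map_add, map_add, hx, hy, add_zero]
    | tmul a c =>
      rw [TensorProduct.lift.tmul]
      by_cases hi : i' = i
      · subst hi
        obtain rfl : j = k := by omega
        obtain ⟨z, rfl⟩ := zcl_surjective L i' a
        obtain ⟨w, rfl⟩ := zcl_surjective (Next M) j c
        rw [rho_kun_self, LinearMap.lTensor_tmul, pc_sndN_cycle, TensorProduct.tmul_zero]
      · rw [rho_kun_ne L M i k n h i' j _ hi, map_zero]

lemma subsingleton_tor_of_flat {N P : Type u} [AddCommGroup N] [Module A N] [AddCommGroup P] [Module A P]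
    [Module.Flat A N] (p : ℕ) (hp : 0 < p) : Subsingleton (DRing.Tor A p N P) :=
  (Groth.Agent.S3527.result A N P p hp).1

variable {L M} in
lemma kunneth_injective (hL : DRing.TermwiseFlat L) (bL : ∃ b : ℤ, DRing.VanishesAbove L b)
    (bM : ∃ b : ℤ, DRing.VanishesAbove M b) (hH : ∀ i : ℤ, Module.Flat A (L.homology i)) (N : ℤ) :
    Function.Injective (kunneth L M N) := by
  classical
  obtain ⟨n, rfl⟩ : ∃ n, N = n + 1 := ⟨N - 1, by omega⟩
  rw [injective_iff_map_eq_zero]
  intro f hf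
  obtain ⟨e, rfl⟩ := redMap_surjective L M n _ rfl f
  rw [kunneth_redMap] at hf
  obtain ⟨s, r, hd, hr, hpr⟩ := exists_lift L M n e
  rw [hf, zcl_eq_zero_iff' _ _ n rfl] at hr
  obtain ⟨v, hv⟩ := hr
  have hu : s - incT L M n v ∈ Z (HTor.tensorCx L (Next M)) n := by
    rw [LinearMap.mem_ker, map_sub, hd, ← hv, sub_eq_zero]
    exact (ConcreteCategory.congr_hom ((HomologicalComplex.tensorHom (𝟙 L) (inc M)).comm n (n + 1)) v).symm
  have hsurj : Function.Surjective (kunneth L (Next M) n) :=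
    kunneth_surjective hL bL (by
      obtain ⟨b, hb⟩ := bM
      exact ⟨b, fun j hj =>
        haveI := subsingleton_next_X M b (subsingleton_of_vanishesAbove hb) j hj
        ModuleCat.isZero_of_subsingleton _⟩) n fun p i j _ hp => by
      haveI := hH i
      exact subsingleton_tor_of_flat p hp
  obtain ⟨g, hg⟩ := hsurj (zcl _ n ⟨_, hu⟩)
  have hcomp : ∀ ik : HTor.Antidiag n, (pc M ik.1.2 (ik.1.2 + 1) rfl).lTensor _ (e ik) = 0 := by
    intro ik
    obtain ⟨w, hw, hw'⟩ := hpr ik
    have h1 := lTensor_pc_rho_kunneth L M ik.1.1 ik.1.2 n ik.2 g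
    rw [hg, rho, zdesc_zcl, rhoZ_eq L M _ _ n _ _ w (by rw [map_sub, pr_incT, sub_zero, hw]), hw',
      map_zsmul] at h1
    have h2 := congrArg (sgn ik.1.1 • ·) h1
    simp only [sgn_smul_sgn_smul, smul_zero] at h2
    exact h2
  rw [← DirectSum.sum_support_of e, map_sum]
  exact Finset.sum_eq_zero fun ik _ => by rw [← DirectSum.lof_eq_of A, redMap_lof, hcomp ik, map_zero]

end Groth.Agent.KunnethLib
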