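import Groth.Agent.KunnethLib.Homology
import Mathlib.LinearAlgebra.Finsupp.LinearCombination

/-!
# Killing the homology of a complex by free modules

For a complex `M`, the complex `Next M` has terms `M^j × P^j` with `P^j` free on the nonzero
classes of `H^{j+1}(M)`; the inclusion `M ⟶ Next M` is zero on homology.
-/

set_option autoImplicit false

universe u

open CategoryTheory CategoryTheory.Limits
open scoped TensorProduct DirectSum

namespace Groth.Agent.KunnethLib

variable {A : Type u} [CommRing A] (M : DRing.Cx A)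

/-- The nonzero classes in degree `k + 1`. -/
abbrev Gen (k : ℤ) : Type u := {h : M.homology (k + 1) // h ≠ 0}

/-- The free module on the nonzero classes in degree `k + 1`. -/
abbrev FP (k : ℤ) : Type u := Gen M k →₀ A

/-- Representatives of classes. -/
noncomputable def rep (k : ℤ) (h : Gen M k) : Z M (k + 1) := (zcl_surjective M (k + 1) h.1).choose

lemma zcl_rep (k : ℤ) (h : Gen M k) : zcl M (k + 1) (rep M k h) = h.1 :=
  (zcl_surjective M (k + 1) h.1).choose_spec

/-- The map from the free module to cycles. -/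
noncomputable def φ (k : ℤ) : FP M k →ₗ[A] Z M (k + 1) := Finsupp.linearCombination A (rep M k)

/-- The map to chains. -/
noncomputable def φX (k : ℤ) : FP M k →ₗ[A] M.X (k + 1) := (Z M (k + 1)).subtype ∘ₗ φ M k

lemma d_φX (k : ℤ) (x : FP M k) : (M.d (k + 1) (k + 1 + 1)).hom (φX M k x) = 0 := (φ M k x).2

/-- The differential of `Next M`. -/
noncomputable def nextD (j : ℤ) : (M.X j × FP M j) →ₗ[A] (M.X (j + 1) × FP M (j + 1)) :=
  (((M.d j (j + 1)).hom ∘ₗ LinearMap.fst A _ _) + (φX M j ∘ₗ LinearMap.snd A _ _)).prod 0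

lemma nextD_apply (j : ℤ) (m : M.X j) (x : FP M j) :
    nextD M j (m, x) = ((M.d j (j + 1)).hom m + φX M j x, 0) := rfl

/-- The complex killing the homology of `M`. -/
noncomputable def Next : DRing.Cx A :=
  CochainComplex.of (fun j => ModuleCat.of A (M.X j × FP M j)) (fun j => ModuleCat.ofHom (nextD M j))
    fun j => ModuleCat.hom_ext <| LinearMap.ext fun p => by
      obtain ⟨m, x⟩ := p
      show nextD M (j + 1) (nextD M j (m, x)) = 0
      rw [nextD_apply, nextD_apply, map_zero, add_zero, map_add, d_φX, add_zero]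
      exact Prod.ext (dd M _ _ _ m) rfl

/-- Constructor for elements of `Next M`. -/
noncomputable def mkN (j : ℤ) : (M.X j × FP M j) →ₗ[A] (Next M).X j := LinearMap.id

/-- The first coordinate. -/
noncomputable def fstN (j : ℤ) : (Next M).X j →ₗ[A] M.X j := LinearMap.fst A _ (FP M j)

/-- The second coordinate. -/
noncomputable def sndN (j : ℤ) : (Next M).X j →ₗ[A] FP M j := LinearMap.snd A (M.X j) _

@[simp] lemma fstN_mkN (j : ℤ) (p : M.X j × FP M j) : fstN M j (mkN M j p) = p.1 := rfl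

@[simp] lemma sndN_mkN (j : ℤ) (p : M.X j × FP M j) : sndN M j (mkN M j p) = p.2 := rfl

lemma mkN_eta (j : ℤ) (y : (Next M).X j) : mkN M j (fstN M j y, sndN M j y) = y := rfl

lemma ext_N {j : ℤ} {y y' : (Next M).X j} (h₁ : fstN M j y = fstN M j y') (h₂ : sndN M j y = sndN M j y') :
    y = y' := Prod.ext h₁ h₂

lemma next_d (j : ℤ) (y : (Next M).X j) :
    ((Next M).d j (j + 1)).hom y = nextD M j (fstN M j y, sndN M j y) :=
  ConcreteCategory.congr_hom (CochainComplex.of_d (fun j => ModuleCat.of A (M.X j × FP M j))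
    (fun j => ModuleCat.ofHom (nextD M j)) j) y

lemma fstN_d (j : ℤ) (y : (Next M).X j) :
    fstN M (j + 1) (((Next M).d j (j + 1)).hom y) =
      (M.d j (j + 1)).hom (fstN M j y) + φX M j (sndN M j y) := by
  rw [next_d]; rfl

lemma sndN_d (i j : ℤ) (y : (Next M).X i) : sndN M j (((Next M).d i j).hom y) = 0 := by
  by_cases h : i + 1 = j
  · subst h; rw [next_d]; rfl
  · rw [(Next M).shape i j h]; simp

/-- The inclusion. -/
noncomputable def inc : M ⟶ Next M where
  f j := ModuleCat.ofHom (mkN M j ∘ₗ LinearMap.inl A _ _)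
  comm' i j h := by
    obtain rfl : i + 1 = j := h
    refine ModuleCat.hom_ext (LinearMap.ext fun m => ?_)
    show ((Next M).d i (i + 1)).hom (mkN M i (m, 0)) = mkN M (i + 1) ((M.d i (i + 1)).hom m, 0)
    rw [next_d, fstN_mkN, sndN_mkN, nextD_apply, map_zero, add_zero]
    rfl

lemma inc_apply (j : ℤ) (m : M.X j) : ((inc M).f j).hom m = mkN M j (m, 0) := rfl

/-- The map from the free module onto homology. -/
noncomputable def pc (k k' : ℤ) (h : k + 1 = k') : FP M k →ₗ[A] M.homology k' := by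
  subst h; exact zcl M (k + 1) ∘ₗ φ M k

lemma pc_rfl (k : ℤ) : pc M k (k + 1) rfl = zcl M (k + 1) ∘ₗ φ M k := rfl

lemma pc_surjective (k k' : ℤ) (h : k + 1 = k') : Function.Surjective (pc M k k' h) := by
  subst h
  intro c
  rw [pc_rfl]
  by_cases hc : c = 0
  · exact ⟨0, by simp [hc]⟩
  · exact ⟨Finsupp.single ⟨c, hc⟩ 1, by simp [φ, zcl_rep]⟩

/-- The differential between successive free modules. -/
noncomputable def dlt (k k' : ℤ) (h : k + 1 = k') : FP (Next M) k →ₗ[A] FP M k' := by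
  subst h; exact sndN M (k + 1) ∘ₗ φX (Next M) k

lemma dlt_rfl (k : ℤ) : dlt M k (k + 1) rfl = sndN M (k + 1) ∘ₗ φX (Next M) k := rfl

lemma homologyMap_inc (j : ℤ) : (HomologicalComplex.homologyMap (inc M) j).hom = 0 := by
  obtain ⟨k, rfl⟩ : ∃ k, j = k + 1 := ⟨j - 1, by omega⟩
  refine LinearMap.ext fun c => ?_
  obtain ⟨x, hx⟩ := pc_surjective M k (k + 1) rfl c
  subst hx
  rw [pc_rfl, LinearMap.comp_apply, homologyMap_zcl, LinearMap.zero_apply,
    zcl_eq_zero_iff' _ _ k rfl]
  refine ⟨mkN M k (0, x), ?_⟩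
  rw [next_d, fstN_mkN, sndN_mkN, nextD_apply, map_zero, zero_add]
  rfl

lemma pc_dlt (k k' k'' : ℤ) (h : k + 1 = k') (h' : k' + 1 = k'') (x : FP (Next M) k) :
    pc M k' k'' h' (dlt M k k' h x) = 0 := by
  subst h h'
  rw [pc_rfl, dlt_rfl, LinearMap.comp_apply, LinearMap.comp_apply, zcl_eq_zero_iff' _ _ (k + 1) rfl]
  have h0 := congrArg (fstN M (k + 1 + 1)) (d_φX (Next M) k x)
  rw [fstN_d, map_zero] at h0
  exact ⟨- fstN M (k + 1) (φX (Next M) k x), by rw [map_neg]; exact neg_eq_of_add_eq_zero_right h0⟩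

lemma exists_dlt_of_pc (k k' k'' : ℤ) (h : k + 1 = k') (h' : k' + 1 = k'') (y : FP M k')
    (hy : pc M k' k'' h' y = 0) : ∃ x, dlt M k k' h x = y := by
  subst h h'
  rw [pc_rfl, LinearMap.comp_apply, zcl_eq_zero_iff' _ _ (k + 1) rfl] at hy
  obtain ⟨w, hw⟩ := hy
  have hc : mkN M (k + 1) (-w, y) ∈ Z (Next M) (k + 1) := by
    rw [LinearMap.mem_ker]
    refine ext_N M ?_ ?_
    · rw [fstN_d, fstN_mkN, sndN_mkN, map_neg, map_zero, hw]
      exact neg_add_cancel _
    · rw [sndN_d, map_zero]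
  obtain ⟨x, hx⟩ := pc_surjective (Next M) k (k + 1) rfl (zcl (Next M) (k + 1) ⟨_, hc⟩)
  rw [pc_rfl, LinearMap.comp_apply, ← sub_eq_zero, ← map_sub, zcl_eq_zero_iff' _ _ k rfl] at hx
  obtain ⟨v, hv⟩ := hx
  refine ⟨x, ?_⟩
  have h0 := congrArg (sndN M (k + 1)) hv
  rw [sndN_d, AddSubgroupClass.coe_sub, map_sub, sndN_mkN] at h0
  rw [dlt_rfl]
  exact sub_eq_zero.1 h0.symm

lemma pc_eq_zero_of_dlt (k k' : ℤ) (h : k + 1 = k') (x : FP (Next M) k) (hx : dlt M k k' h x = 0) :
    pc (Next M) k k' h x = 0 := by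
  subst h
  rw [dlt_rfl, LinearMap.comp_apply] at hx
  rw [pc_rfl, LinearMap.comp_apply]
  have hy : φX (Next M) k x = mkN M (k + 1) (fstN M (k + 1) (φX (Next M) k x), 0) :=
    ext_N M rfl hx
  have hm : fstN M (k + 1) (φX (Next M) k x) ∈ Z M (k + 1) := by
    have h0 := congrArg (fstN M (k + 1 + 1)) (d_φX (Next M) k x)
    rw [fstN_d, map_zero, hx, map_zero, add_zero] at h0
    exact h0
  have h1 := LinearMap.congr_fun (homologyMap_inc M (k + 1)) (zcl M (k + 1) ⟨_, hm⟩)
  rw [homologyMap_zcl, LinearMap.zero_apply] at h1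
  refine Eq.trans (congrArg (zcl (Next M) (k + 1)) ?_) h1
  exact Subtype.ext hy

lemma dlt_comp (k k' k'' : ℤ) (h : k + 1 = k') (h' : k' + 1 = k'') (x : FP (Next (Next M)) k) :
    dlt M k' k'' h' (dlt (Next M) k k' h x) = 0 := by
  have h0 := pc_dlt (Next M) k k' k'' h h' x
  subst h h'
  rw [pc_rfl, LinearMap.comp_apply, zcl_eq_zero_iff' _ _ (k + 1) rfl] at h0
  obtain ⟨w, hw⟩ := h0
  have h1 := congrArg (sndN M (k + 1 + 1)) hw
  rw [sndN_d] at h1
  rw [dlt_rfl M]
  exact h1.symm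

lemma exact_dlt (k k' k'' : ℤ) (h : k + 1 = k') (h' : k' + 1 = k'') :
    Function.Exact (dlt (Next M) k k' h) (dlt M k' k'' h') := fun y =>
  ⟨fun hy => exists_dlt_of_pc (Next M) k k' k'' h h' y (pc_eq_zero_of_dlt M k' k'' h' y hy), by
    rintro ⟨x, rfl⟩; exact dlt_comp M k k' k'' h h' x⟩

lemma exact_dlt_pc (k k' k'' : ℤ) (h : k + 1 = k') (h' : k' + 1 = k'') :
    Function.Exact (dlt M k k' h) (pc M k' k'' h') := fun y =>
  ⟨exists_dlt_of_pc M k k' k'' h h' y, by rintro ⟨x, rfl⟩; exact pc_dlt M k k' k'' h h' x⟩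

lemma subsingleton_FP (k : ℤ) (h : Subsingleton (M.homology (k + 1))) : Subsingleton (FP M k) := by
  haveI : IsEmpty (Gen M k) := ⟨fun g => g.2 (Subsingleton.elim _ _)⟩
  infer_instance

lemma subsingleton_homology_of_X (j : ℤ) (h : Subsingleton (M.X j)) : Subsingleton (M.homology j) :=
  (zcl_surjective M j).subsingleton

lemma subsingleton_next_X (b : ℤ) (hM : ∀ j, b < j → Subsingleton (M.X j)) (j : ℤ) (hj : b < j) :
    Subsingleton ((Next M).X j) := by
  haveI := hM j hj
  haveI := subsingleton_FP M j (subsingleton_homology_of_X M _ (hM (j + 1) (by omega)))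
  exact (inferInstance : Subsingleton (M.X j × FP M j))

lemma subsingleton_next_homology (c : ℤ) (hM : ∀ j, c < j → Subsingleton (M.homology j)) (j : ℤ)
    (hj : c - 1 < j) : Subsingleton ((Next M).homology j) := by
  haveI hP := subsingleton_FP M j (hM (j + 1) (by omega))
  refine subsingleton_of_forall_eq 0 fun cl => ?_
  obtain ⟨⟨y, hy⟩, rfl⟩ := zcl_surjective (Next M) j cl
  have hyz : fstN M j y ∈ Z M j := by
    have h0 := congrArg (fstN M (j + 1)) (LinearMap.mem_ker.1 hy)
    rw [fstN_d, map_zero, Subsingleton.elim (sndN M j y) 0, map_zero, add_zero] at h0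
    exact h0
  have h1 := LinearMap.congr_fun (homologyMap_inc M j) (zcl M j ⟨_, hyz⟩)
  rw [homologyMap_zcl, LinearMap.zero_apply] at h1
  refine Eq.trans (congrArg (zcl (Next M) j) (Subtype.ext ?_)) h1
  exact ext_N M rfl (Subsingleton.elim _ _)

end Groth.Agent.KunnethLib
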