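import Groth.Agent.KunnethLib.Homology
import Mathlib.RingTheory.Flat.Basic
import Mathlib.Algebra.Category.ModuleCat.Basic

/-!
# Vanishing of the cohomology of a tensor product above the sum of the cohomological bounds
-/

set_option autoImplicit false

universe u

open CategoryTheory CategoryTheory.Limits
open scoped TensorProduct

namespace Groth.Agent.KunnethLib

variable {A : Type u} [CommRing A] {L M : DRing.Cx A}

lemma subsingleton_of_vanishesAbove {b : ℤ} (h : DRing.VanishesAbove L b) (j : ℤ) (hj : b < j) :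
    Subsingleton (L.X j) :=
  ModuleCat.subsingleton_of_isZero (h j hj)

lemma exact_of_subsingleton_homology (j j' : ℤ) (h : j' + 1 = j) [Subsingleton (M.homology j)] :
    Function.Exact (M.d j' j).hom (M.d j (j + 1)).hom := fun x =>
  ⟨fun hx => LinearMap.mem_range.1
      ((zcl_eq_zero_iff' M j j' h ⟨x, hx⟩).1 (Subsingleton.elim _ _)), by
    rintro ⟨w, rfl⟩; exact dd M _ _ _ w⟩

lemma mem_range_d_of_cycle (hL : DRing.TermwiseFlat L) {bL c : ℤ}
    (hLb : ∀ i, bL < i → Subsingleton (L.X i)) (hM : ∀ j, c < j → Subsingleton (M.homology j))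
    (m : ℤ) (hm : bL + c < m + 1) (t : ℕ) :
    ∀ u : (HTor.tensorCx L M).X (m + 1), ((HTor.tensorCx L M).d (m + 1) (m + 1 + 1)).hom u = 0 →
      (∀ (i j : ℤ) (h : i + j = m + 1), m - bL + t < j → tproj L M i j (m + 1) h u = 0) →
      u ∈ LinearMap.range ((HTor.tensorCx L M).d m (m + 1)).hom := by
  induction t with
  | zero =>
    intro u _ htop
    have : u = 0 := eq_zero_of_tproj u fun i j h => by
      by_cases hj : m - bL + ((0 : ℕ) : ℤ) < j
      · exact htop i j h hj
      · haveI := hLb i (by omega)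
        exact Subsingleton.elim _ _
    rw [this]; exact Submodule.zero_mem _
  | succ t ih =>
    intro u hu htop
    obtain ⟨j₀, hj₀⟩ : ∃ j₀, j₀ = m - bL + ((t : ℤ) + 1) := ⟨_, rfl⟩
    obtain ⟨i₀, hi₀⟩ : ∃ i₀, i₀ + j₀ = m + 1 := ⟨m + 1 - j₀, by omega⟩
    have h0 : (M.d j₀ (j₀ + 1)).hom.lTensor (L.X i₀) (tproj L M i₀ j₀ (m + 1) hi₀ u) = 0 := by
      have h1 := congrArg (tproj L M i₀ (j₀ + 1) (m + 1 + 1) (by omega)) hu
      rw [tproj_d, map_zero, htop (i₀ - 1) (j₀ + 1) (by omega) (by omega), map_zero, zero_add] at h1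
      have h2 := congrArg (sgn i₀ • ·) h1
      simp only [sgn_smul_sgn_smul, smul_zero] at h2
      have aux : ∀ (k : ℤ) (hk : k = j₀) (hs : i₀ + k = m + 1),
          (M.d k (j₀ + 1)).hom.lTensor (L.X i₀) (tproj L M i₀ k (m + 1) hs u) =
            (M.d j₀ (j₀ + 1)).hom.lTensor (L.X i₀) (tproj L M i₀ j₀ (m + 1) hi₀ u) := by
        rintro k rfl hs; rfl
      rw [← aux (j₀ + 1 - 1) (by omega) (by omega)]
      exact h2
    haveI := hM j₀ (by omega)
    haveI := hL i₀
    obtain ⟨w, hw⟩ := ((Module.Flat.lTensor_exact (L.X i₀)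
      (exact_of_subsingleton_homology (M := M) j₀ (j₀ - 1) (by omega))) _).1 h0
    set v := sgn i₀ • tι L M i₀ (j₀ - 1) m (by omega) w with hv
    have key : u - ((HTor.tensorCx L M).d m (m + 1)).hom v ∈
        LinearMap.range ((HTor.tensorCx L M).d m (m + 1)).hom := by
      refine ih _ (by rw [map_sub, hu, dd, sub_zero]) fun i j h hj => ?_
      rw [map_sub, tproj_d, hv]
      simp only [map_zsmul, tproj_tι_ne (L := L) (M := M) (i - 1) j m (by omega) i₀ (j₀ - 1) (by omega)
        (by omega : i₀ ≠ i - 1), smul_zero, map_zero, zero_add]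
      by_cases hjj : j = j₀
      · subst hjj
        obtain rfl : i = i₀ := by omega
        rw [tproj_tι_self, sgn_smul_sgn_smul, hw, sub_self]
      · rw [htop i j h (by push_cast; omega), tproj_tι_ne _ _ _ _ _ _ _ (by omega : i₀ ≠ i),
          map_zero, smul_zero, smul_zero, sub_zero]
    have := Submodule.add_mem _ key (LinearMap.mem_range_self ((HTor.tensorCx L M).d m (m + 1)).hom v)
    rwa [sub_add_cancel] at this

lemma subsingleton_homology_tensor (hL : DRing.TermwiseFlat L) {bL b c : ℤ}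
    (hLb : ∀ i, bL < i → Subsingleton (L.X i)) (hMb : ∀ j, b < j → Subsingleton (M.X j))
    (hM : ∀ j, c < j → Subsingleton (M.homology j)) (n : ℤ) (hn : bL + c < n) :
    Subsingleton ((HTor.tensorCx L M).homology n) := by
  obtain ⟨m, rfl⟩ : ∃ m, n = m + 1 := ⟨n - 1, by omega⟩
  refine subsingleton_of_forall_eq 0 fun cl => ?_
  obtain ⟨⟨u, hu⟩, rfl⟩ := zcl_surjective _ _ cl
  obtain ⟨t, ht⟩ : ∃ t : ℕ, b ≤ m - bL + t := ⟨(b - (m - bL)).toNat, by omega⟩
  refine (zcl_eq_zero_iff' _ _ m rfl _).2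
    (LinearMap.mem_range.1 (mem_range_d_of_cycle hL hLb hM m hn t u hu fun i j h hj => ?_))
  haveI := hMb j (by omega)
  exact Subsingleton.elim _ _

end Groth.Agent.KunnethLib
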