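import Groth.Agent.KunnethLib.Kernel
import Groth.Agent.KunnethLib.Vanish
import Groth.Agent.NodeTor.Basic

/-!
# The filtration of the cohomology of a tensor product by iterated covers
-/

set_option autoImplicit false

universe u

open CategoryTheory CategoryTheory.Limits MonoidalCategory
open scoped TensorProduct DirectSum

namespace Groth.Agent.KunnethLib

variable {A : Type u} [CommRing A] (L M : DRing.Cx A)

/-- The iterated covers. -/
noncomputable def Tw : ℕ → DRing.Cx A
  | 0 => M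
  | q + 1 => Next (Tw q)

/-- The map to the cohomology of an iterated cover. -/
noncomputable def GH (N : ℤ) :
    (q : ℕ) → ((HTor.tensorCx L M).homology N →ₗ[A] (HTor.tensorCx L (Tw M q)).homology N)
  | 0 => LinearMap.id
  | q + 1 => gH L (Tw M q) N ∘ₗ GH N q

/-- The filtration. -/
noncomputable def Fil (N : ℤ) (p : ℕ) : Submodule A ((HTor.tensorCx L M).homology N) :=
  LinearMap.ker (GH L M N (p + 1))

lemma fil_mono (N : ℤ) : Monotone (Fil L M N) :=
  monotone_nat_of_le_succ fun p x hx => by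
    rw [Fil, LinearMap.mem_ker] at hx ⊢
    show gH L (Tw M (p + 1)) N (GH L M N (p + 1) x) = 0
    rw [hx, map_zero]

lemma range_psiTot_eq_range_kunneth (n N : ℤ) (hN : n + 1 = N) :
    LinearMap.range (psiTot L M n N hN) = LinearMap.range (kunneth L M N) := by
  refine le_antisymm ?_ ?_
  · rintro _ ⟨e, rfl⟩
    induction e using DirectSum.induction_on with
    | zero => simp
    | add x y hx hy => rw [map_add]; exact Submodule.add_mem _ hx hy
    | of ik x =>
      rw [← DirectSum.lof_eq_of A, psiTot_lof]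
      exact ⟨DirectSum.lof A (HTor.Antidiag N)
        (fun ij => L.homology ij.1.1 ⊗[A] M.homology ij.1.2)
        ⟨(ik.1.1, ik.1.2 + 1), by have := ik.2; omega⟩ ((pc M ik.1.2 (ik.1.2 + 1) rfl).lTensor _ x),
        DirectSum.toModule_lof _ _ _⟩
  · rintro _ ⟨e, rfl⟩
    induction e using DirectSum.induction_on with
    | zero => simp
    | add x y hx hy => rw [map_add]; exact Submodule.add_mem _ hx hy
    | of ij x =>
      rw [← DirectSum.lof_eq_of A, kunneth, DirectSum.toModule_lof]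
      obtain ⟨⟨i, j⟩, hij⟩ := ij
      obtain ⟨k, rfl⟩ : ∃ k, j = k + 1 := ⟨j - 1, by omega⟩
      obtain ⟨x', rfl⟩ := LinearMap.lTensor_surjective (L.homology i) (pc_surjective M k (k + 1) rfl) x
      exact ⟨DirectSum.lof A (HTor.Antidiag n) (fun ik => L.homology ik.1.1 ⊗[A] FP M ik.1.2)
        ⟨(i, k), by omega⟩ x', psiTot_lof _ _ _ _ _ _ _⟩

lemma fil_zero (N : ℤ) : Fil L M N 0 = LinearMap.range (kunneth L M N) := by
  rw [← range_psiTot_eq_range_kunneth L M (N - 1) N (by omega)]
  refine le_antisymm (fun c hc => mem_range_psiTot L M _ N _ c hc) ?_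
  rintro _ ⟨e, rfl⟩
  exact gH_psiTot L M _ N _ e

lemma subsingleton_tw_X {b : ℤ} (h : ∀ j, b < j → Subsingleton (M.X j)) :
    ∀ (q : ℕ) (j : ℤ), b < j → Subsingleton ((Tw M q).X j)
  | 0 => h
  | q + 1 => subsingleton_next_X (Tw M q) b (subsingleton_tw_X h q)

lemma subsingleton_tw_homology {b : ℤ} (h : ∀ j, b < j → Subsingleton (M.X j)) :
    ∀ (q : ℕ) (j : ℤ), b - q < j → Subsingleton ((Tw M q).homology j)
  | 0 => fun j hj => subsingleton_homology_of_X M j (h j (by omega))
  | q + 1 => fun j hj =>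
    subsingleton_next_homology (Tw M q) (b - q) (subsingleton_tw_homology h q) j (by push_cast at hj; omega)

variable {L M} in
lemma exists_fil_eq_top (hL : DRing.TermwiseFlat L) (bL : ∃ b : ℤ, DRing.VanishesAbove L b)
    (bM : ∃ b : ℤ, DRing.VanishesAbove M b) (N : ℤ) : ∃ p, Fil L M N p = ⊤ := by
  obtain ⟨bl, hbl⟩ := bL
  obtain ⟨b, hb⟩ := bM
  obtain ⟨p, hp⟩ : ∃ p : ℕ, bl + b - N < p := ⟨(bl + b - N).toNat + 1, by omega⟩
  refine ⟨p, Submodule.eq_top_iff'.2 fun x => ?_⟩
  haveI := subsingleton_homology_tensor (M := Tw M (p + 1)) hL (subsingleton_of_vanishesAbove hbl)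
    (subsingleton_tw_X M (subsingleton_of_vanishesAbove hb) (p + 1))
    (subsingleton_tw_homology M (subsingleton_of_vanishesAbove hb) (p + 1)) N (by push_cast; omega)
  exact LinearMap.mem_ker.2 (Subsingleton.elim _ _)

section Tor

variable (j : ℤ)

/-- The differentials of the resolution of `H^j(M)`. -/
noncomputable def resD (q : ℕ) :
    ModuleCat.of A (FP (Tw M (q + 1)) (j - 1 - ((q + 1 : ℕ) : ℤ))) ⟶
      ModuleCat.of A (FP (Tw M q) (j - 1 - (q : ℤ))) :=
  ModuleCat.ofHom (dlt (Tw M q) _ _ (by push_cast; omega))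

/-- A free resolution of `H^j(M)`. -/
noncomputable def res : ProjectiveResolution (ModuleCat.of A (M.homology j)) :=
  NodeTor.resolution _ (fun q => ModuleCat.of A (FP (Tw M q) (j - 1 - (q : ℤ))))
    (fun _ => (IsProjective.iff_projective _).1 inferInstance) (resD M j)
    (fun q => ModuleCat.hom_ext (LinearMap.ext fun x => dlt_comp (Tw M q) _ _ _ (by push_cast; omega) (by push_cast; omega) x))
    (ModuleCat.ofHom (pc M _ j (by push_cast; omega)))
    (ModuleCat.hom_ext (LinearMap.ext fun x => pc_dlt M _ _ _ (by push_cast; omega) (by push_cast; omega) x))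
    (pc_surjective M _ _ _)
    (exact_dlt_pc M _ _ _ (by push_cast; omega) (by push_cast; omega))
    (fun q => exact_dlt (Tw M q) _ _ _ (by push_cast; omega) (by push_cast; omega))

lemma res_d (q : ℕ) : (res M j).complex.d (q + 1) q = resD M j q :=
  NodeTor.resolution_d _ _ _ _ _ _ _ _ _ _ q

variable (i : ℤ)

/-- The complex computing `Tor(H^i L, H^j M)`. -/
noncomputable abbrev torCx : ChainComplex (ModuleCat.{u} A) ℕ :=
  (((tensoringLeft (ModuleCat.{u} A)).obj (ModuleCat.of A (L.homology i))).mapHomologicalComplex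
    (ComplexShape.down ℕ)).obj (res M j).complex

lemma torCx_d (q : ℕ) (x : (torCx L M j i).X (q + 1)) :
    ((torCx L M j i).d (q + 1) q).hom x =
      (dlt (Tw M q) (j - 1 - ((q + 1 : ℕ) : ℤ)) (j - 1 - (q : ℤ)) (by push_cast; omega)).lTensor
        (L.homology i) x := by
  show ((((tensoringLeft (ModuleCat.{u} A)).obj (ModuleCat.of A (L.homology i))).map
    ((res M j).complex.d (q + 1) q))).hom x = _
  rw [res_d]
  rfl

variable (n N : ℤ) (hN : n + 1 = N) (p : ℕ) (hij : i + j - (p + 1 : ℕ) = N)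

/-- The edge map on a term of the complex computing `Tor`. -/
noncomputable def psiC : (torCx L M j i).X (p + 1) →ₗ[A] (HTor.tensorCx L (Tw M (p + 1))).homology N :=
  psi L (Tw M (p + 1)) i (j - 1 - ((p + 1 : ℕ) : ℤ)) n N (by omega) hN

lemma psi_torCx_bdry (v : (torCx L M j i).X (p + 1 + 1)) :
    psiC L M j i n N hN p hij (((torCx L M j i).d (p + 1 + 1) (p + 1)).hom v) = 0 := by
  rw [torCx_d]
  show psi L (Tw M (p + 1)) i (j - 1 - ((p + 1 : ℕ) : ℤ)) n N (by omega) hN _ = 0
  rw [psi, LinearMap.comp_apply, ← LinearMap.lTensor_comp_apply,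
    show pc (Tw M (p + 1)) _ (j - 1 - ((p + 1 : ℕ) : ℤ) + 1) rfl ∘ₗ
      dlt (Tw M (p + 1)) (j - 1 - ((p + 1 + 1 : ℕ) : ℤ)) _ (by push_cast; omega) = 0 from
      LinearMap.ext fun x => pc_dlt (Tw M (p + 1)) _ _ _ (by push_cast; omega) rfl x,
    LinearMap.lTensor_zero, LinearMap.zero_apply, map_zero]

/-- The map on the homology of the complex computing `Tor`. -/
noncomputable def torPre :
    (torCx L M j i).homology (p + 1) →ₗ[A] (HTor.tensorCx L (Tw M (p + 1))).homology N :=
  hdesc (torCx L M j i) (p + 1 + 1) (p + 1) p (ChainComplex.prev ℕ (p + 1)) (by simp)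
      (psiC L M j i n N hN p hij ∘ₗ
        (LinearMap.ker ((torCx L M j i).d (p + 1) p).hom).subtype)
      (fun x hx => by
        obtain ⟨v, hv⟩ := hx
        show psiC L M j i n N hN p hij (x : (torCx L M j i).X (p + 1)) = 0
        rw [← hv]
        exact psi_torCx_bdry L M j i n N hN p hij v)

lemma torPre_cls (hk : (ComplexShape.down ℕ).next (p + 1) = p)
    (x : LinearMap.ker ((torCx L M j i).d (p + 1) p).hom) :
    torPre L M j i n N hN p hij (clsMap (torCx L M j i) (p + 1) p hk x) =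
      psiC L M j i n N hN p hij (x : (torCx L M j i).X (p + 1)) :=
  hdesc_cls _ _ _ _ _ _ _ _ x

/-- The identification of `Tor` with the homology of the resolution. -/
noncomputable def torEquiv :
    DRing.Tor A (p + 1) (L.homology i) (M.homology j) ≃ₗ[A] (torCx L M j i).homology (p + 1) :=
  ((res M j).isoLeftDerivedObj
    ((tensoringLeft (ModuleCat.{u} A)).obj (ModuleCat.of A (L.homology i))) (p + 1)).toLinearEquiv

/-- The map from `Tor` to the graded piece. -/
noncomputable def torGamma :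
    DRing.Tor A (p + 1) (L.homology i) (M.homology j) →ₗ[A] (HTor.tensorCx L (Tw M (p + 1))).homology N :=
  torPre L M j i n N hN p hij ∘ₗ (torEquiv L M j i p).toLinearMap

lemma psi_mem_range_torGamma (k : ℤ) (hk : j - 1 - ((p + 1 : ℕ) : ℤ) = k) (hik : i + k = n)
    (x : L.homology i ⊗[A] FP (Next (Tw M p)) k)
    (hx : (dlt (Tw M p) k (k + 1) rfl).lTensor (L.homology i) x = 0) :
    psi L (Next (Tw M p)) i k n N hik hN x ∈ LinearMap.range (torGamma L M j i n N hN p hij) := by
  subst hk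
  have aux : ∀ (k' : ℤ) (_ : k' = j - 1 - (p : ℤ)) (h : j - 1 - ((p + 1 : ℕ) : ℤ) + 1 = k'),
      (dlt (Tw M p) (j - 1 - ((p + 1 : ℕ) : ℤ)) k' h).lTensor (L.homology i) x = 0 := by
    intro k' _ h; subst h; exact hx
  have hker : ((torCx L M j i).d (p + 1) p).hom x = 0 := by
    rw [torCx_d]; exact aux _ rfl _
  obtain ⟨z, hz⟩ := (torEquiv L M j i p).surjective
    (clsMap (torCx L M j i) (p + 1) p (by simp) ⟨x, hker⟩)
  refine ⟨z, ?_⟩
  unfold torGamma
  rw [LinearMap.comp_apply, LinearEquiv.coe_toLinearMap, hz, torPre_cls]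
  rfl

end Tor

/-- The total map from the `Tor` sum. -/
noncomputable def torGammaTot (n N : ℤ) (hN : n + 1 = N) (p : ℕ) :
    HTor.TorSum L M N (p + 1) →ₗ[A] (HTor.tensorCx L (Tw M (p + 1))).homology N :=
  DirectSum.toModule A _ _ fun ij => torGamma L M ij.1.2 ij.1.1 n N hN p ij.2

lemma GH_mem_range_torGammaTot (n N : ℤ) (hN : n + 1 = N) (p : ℕ)
    (x : (HTor.tensorCx L M).homology N) (hx : x ∈ Fil L M N (p + 1)) :
    GH L M N (p + 1) x ∈ LinearMap.range (torGammaTot L M n N hN p) := by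
  classical
  obtain ⟨e, he⟩ := mem_range_psiTot L (Next (Tw M p)) n N hN (GH L M N (p + 1) x) hx
  have hc := lTensor_dlt_component_eq_zero L (Tw M p) n N hN e (GH L M N p x) he
  refine (congrArg (· ∈ LinearMap.range (torGammaTot L M n N hN p)) he).mp ?_
  rw [← DirectSum.sum_support_of e, map_sum]
  refine Submodule.sum_mem _ fun ik _ => ?_
  rw [← DirectSum.lof_eq_of A, psiTot_lof]
  obtain ⟨⟨i, k⟩, hik⟩ := ik
  obtain ⟨z, hz⟩ := psi_mem_range_torGamma L M (k + 1 + (p + 1 : ℕ)) i n N hN p (by omega) k (by omega)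
    hik (e ⟨(i, k), hik⟩) (hc ⟨(i, k), hik⟩)
  refine ⟨DirectSum.lof A _ (fun ij : {ij : ℤ × ℤ // ij.1 + ij.2 - ((p + 1 : ℕ) : ℤ) = N} =>
    DRing.Tor A (p + 1) (L.homology ij.1.1) (M.homology ij.1.2))
    ⟨(i, k + 1 + (p + 1 : ℕ)), by omega⟩ z, ?_⟩
  rw [torGammaTot, DirectSum.toModule_lof]
  exact hz

lemma isSubquotient_of_hom {H H' T : Type u} [AddCommGroup H] [Module A H] [AddCommGroup H'] [Module A H']
    [AddCommGroup T] [Module A T] (F : ℕ → Submodule A H) (p : ℕ) (f : H →ₗ[A] H') (γ : T →ₗ[A] H')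
    (hker : F p = LinearMap.ker f) (hle : ∀ x ∈ F (p + 1), f x ∈ LinearMap.range γ) :
    HTor.IsSubquotient A (HTor.grSucc F p) T := by
  set I := Submodule.map f (F (p + 1)) with hI
  have hS : LinearMap.ker γ ≤ Submodule.comap γ I := fun t ht => by
    rw [Submodule.mem_comap, LinearMap.mem_ker.1 ht]; exact Submodule.zero_mem _
  let a : F (p + 1) →ₗ[A] I := LinearMap.restrict f fun x hx => Submodule.mem_map_of_mem hx
  let b : Submodule.comap γ I →ₗ[A] I := LinearMap.restrict γ fun t ht => ht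
  have ha : Function.Surjective a := fun ⟨y, hy⟩ => by
    obtain ⟨x, hx, rfl⟩ := hy; exact ⟨⟨x, hx⟩, rfl⟩
  have hb : Function.Surjective b := fun ⟨y, hy⟩ => by
    obtain ⟨x, hx, rfl⟩ := hy
    obtain ⟨t, ht⟩ := hle x hx
    exact ⟨⟨t, by rw [Submodule.mem_comap, ht]; exact Submodule.mem_map_of_mem hx⟩, Subtype.ext ht⟩
  refine ⟨LinearMap.ker γ, Submodule.comap γ I, hS, ⟨?_⟩⟩
  refine (Submodule.quotEquivOfEq _ (LinearMap.ker a) ?_).trans
    ((a.quotKerEquivOfSurjective ha).trans ((b.quotKerEquivOfSurjective hb).symm.trans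
      (Submodule.quotEquivOfEq _ _ ?_)))
  · ext x
    simp [a, hker, Subtype.ext_iff]
  · ext x
    simp [b, Subtype.ext_iff]

lemma isSubquotient_fil (N : ℤ) (p : ℕ) :
    HTor.IsSubquotient A (HTor.grSucc (Fil L M N) p) (HTor.TorSum L M N (p + 1)) :=
  isSubquotient_of_hom _ p (GH L M N (p + 1)) (torGammaTot L M (N - 1) N (by omega) p) rfl
    fun x hx => GH_mem_range_torGammaTot L M _ _ _ p x hx

lemma subsingleton_of_isSubquotient {N T : Type u} [AddCommGroup N] [Module A N] [AddCommGroup T] [Module A T]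
    (h : HTor.IsSubquotient A N T) [Subsingleton T] : Subsingleton N := by
  obtain ⟨S, S', -, ⟨e⟩⟩ := h
  haveI : Subsingleton (↥S' ⧸ Submodule.comap S'.subtype S) := (Submodule.mkQ_surjective _).subsingleton
  exact e.toEquiv.subsingleton

variable {L M} in
lemma kunneth_surjective (hL : DRing.TermwiseFlat L) (bL : ∃ b : ℤ, DRing.VanishesAbove L b)
    (bM : ∃ b : ℤ, DRing.VanishesAbove M b) (N : ℤ)
    (h : ∀ (p : ℕ) (i j : ℤ), i + j - p = N → 0 < p →
      Subsingleton (DRing.Tor A p (L.homology i) (M.homology j))) :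
    Function.Surjective (kunneth L M N) := by
  rw [← LinearMap.range_eq_top, ← fil_zero]
  obtain ⟨p, hp⟩ := exists_fil_eq_top hL bL bM N
  induction p with
  | zero => exact hp
  | succ p ih =>
    refine ih (top_le_iff.1 fun x _ => ?_)
    haveI : ∀ ij : {ij : ℤ × ℤ // ij.1 + ij.2 - ((p + 1 : ℕ) : ℤ) = N},
        Subsingleton (DRing.Tor A (p + 1) (L.homology ij.1.1) (M.homology ij.1.2)) :=
      fun ij => h (p + 1) _ _ ij.2 p.succ_pos
    haveI : Subsingleton (HTor.TorSum L M N (p + 1)) := ⟨fun a b => DFinsupp.ext fun _ => Subsingleton.elim _ _⟩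
    haveI := subsingleton_of_isSubquotient (isSubquotient_fil L M N p)
    exact (Submodule.Quotient.mk_eq_zero (p := Submodule.comap (Fil L M N (p + 1)).subtype (Fil L M N p))
      (x := ⟨x, hp ▸ Submodule.mem_top⟩)).1 (Subsingleton.elim _ _)

end Groth.Agent.KunnethLib
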