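import Groth.Agent.KunnethLib.Tensor

/-!
# Descending linear maps to homology, and the Künneth map
-/

set_option autoImplicit false

universe u

open CategoryTheory CategoryTheory.Limits
open scoped TensorProduct DirectSum
open Groth.Agent.FlatCxLib

namespace Groth.Agent.KunnethLib

section Desc

variable {A : Type u} [CommRing A] {ι : Type*} {c : ComplexShape ι}
  (K : HomologicalComplex (ModuleCat.{u} A) c) (i j k : ι) (hi : c.prev j = i) (hk : c.next j = k)
  {N : Type u} [AddCommGroup N] [Module A N]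

/-- The class map on cycles. -/
noncomputable def clsMap : LinearMap.ker (K.d j k).hom →ₗ[A] K.homology j := (clsHom K j k hk).hom

lemma clsMap_apply (x : LinearMap.ker (K.d j k).hom) :
    clsMap K j k hk x = cls K j k hk (x : K.X j) x.2 := rfl

lemma clsMap_surjective : Function.Surjective (clsMap K j k hk) := fun h => by
  obtain ⟨x, hx, e⟩ := cls_surjective hk h
  exact ⟨⟨x, hx⟩, e⟩

include hi in
lemma clsMap_eq_zero_iff (x : LinearMap.ker (K.d j k).hom) :
    clsMap K j k hk x = 0 ↔ (x : K.X j) ∈ LinearMap.range (K.d i j).hom :=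
  cls_eq_zero_iff hi hk _ x.2

/-- Descend a linear map on cycles killing boundaries to homology. -/
noncomputable def hdesc (g : LinearMap.ker (K.d j k).hom →ₗ[A] N)
    (hg : ∀ x : LinearMap.ker (K.d j k).hom, (x : K.X j) ∈ LinearMap.range (K.d i j).hom → g x = 0) :
    K.homology j →ₗ[A] N :=
  (Submodule.liftQ _ g fun x hx => hg x ((clsMap_eq_zero_iff K i j k hi hk x).1 hx)) ∘ₗ
    ((clsMap K j k hk).quotKerEquivOfSurjective (clsMap_surjective K j k hk)).symm.toLinearMap

lemma hdesc_cls (g : LinearMap.ker (K.d j k).hom →ₗ[A] N)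
    (hg : ∀ x : LinearMap.ker (K.d j k).hom, (x : K.X j) ∈ LinearMap.range (K.d i j).hom → g x = 0)
    (x : LinearMap.ker (K.d j k).hom) : hdesc K i j k hi hk g hg (clsMap K j k hk x) = g x := by
  have : ((clsMap K j k hk).quotKerEquivOfSurjective (clsMap_surjective K j k hk)).symm
      (clsMap K j k hk x) = Submodule.Quotient.mk x := by
    rw [LinearEquiv.symm_apply_eq]; rfl
  simp [hdesc, this]

end Desc

variable {A : Type u} [CommRing A] (K L M : DRing.Cx A)

/-- The cycles in degree `j`. -/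
abbrev Z (j : ℤ) : Submodule A (K.X j) := LinearMap.ker (K.d j (j + 1)).hom

/-- The class of a cycle. -/
noncomputable def zcl (j : ℤ) : Z K j →ₗ[A] K.homology j :=
  clsMap K j (j + 1) (CochainComplex.next ℤ j)

lemma zcl_surjective (j : ℤ) : Function.Surjective (zcl K j) := clsMap_surjective _ _ _ _

lemma zcl_eq_zero_iff (j : ℤ) (x : Z K j) :
    zcl K j x = 0 ↔ ∃ w : K.X (j - 1), (K.d (j - 1) j).hom w = (x : K.X j) :=
  (clsMap_eq_zero_iff K (j - 1) j (j + 1) (CochainComplex.prev ℤ j) _ x).trans LinearMap.mem_range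

lemma zcl_eq_zero_iff' (j j' : ℤ) (h : j' + 1 = j) (x : Z K j) :
    zcl K j x = 0 ↔ ∃ w : K.X j', (K.d j' j).hom w = (x : K.X j) := by
  obtain rfl : j' = j - 1 := by omega
  exact zcl_eq_zero_iff K j x

/-- Descend to homology. -/
noncomputable def zdesc (j : ℤ) {N : Type u} [AddCommGroup N] [Module A N] (g : Z K j →ₗ[A] N)
    (hg : ∀ x : Z K j, (x : K.X j) ∈ LinearMap.range (K.d (j - 1) j).hom → g x = 0) :
    K.homology j →ₗ[A] N :=
  hdesc K (j - 1) j (j + 1) (CochainComplex.prev ℤ j) (CochainComplex.next ℤ j) g hg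

@[simp]
lemma zdesc_zcl (j : ℤ) {N : Type u} [AddCommGroup N] [Module A N] (g : Z K j →ₗ[A] N)
    (hg : ∀ x : Z K j, (x : K.X j) ∈ LinearMap.range (K.d (j - 1) j).hom → g x = 0) (x : Z K j) :
    zdesc K j g hg (zcl K j x) = g x := hdesc_cls _ _ _ _ _ _ _ _ _

lemma homologyπ_eq_zcl (j : ℤ) (z : K.cycles j) :
    (K.homologyπ j).hom z = zcl K j ⟨(K.iCycles j).hom z,
      LinearMap.congr_fun (ModuleCat.hom_ext_iff.1 (K.iCycles_d j (j + 1))) z⟩ := by
  refine congrArg (K.homologyπ j).hom ?_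
  refine (ModuleCat.mono_iff_injective (K.iCycles j)).1 inferInstance ?_
  exact (iCycles_lift (CochainComplex.next ℤ j) (⟨(K.iCycles j).hom z,
      LinearMap.congr_fun (ModuleCat.hom_ext_iff.1 (K.iCycles_d j (j + 1))) z⟩ :
    LinearMap.ker (K.d j (j + 1)).hom)).symm

variable {K L M}

lemma homologyMap_zcl {K' : DRing.Cx A} (φ : K ⟶ K') (j : ℤ) (x : Z K j) :
    (HomologicalComplex.homologyMap φ j).hom (zcl K j x) =
      zcl K' j ⟨(φ.f j).hom (x : K.X j), cycle_map φ _ x.2⟩ :=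
  homologyMap_cls φ _ _ x.2

lemma tι_mem_Z (i j n : ℤ) (h : i + j = n) (z : Z L i) (z' : Z M j) :
    tι L M i j n h ((z : L.X i) ⊗ₜ (z' : M.X j)) ∈ Z (HTor.tensorCx L M) n := by
  rw [LinearMap.mem_ker, d_tι, LinearMap.mem_ker.1 z.2, LinearMap.mem_ker.1 z'.2]
  simp

variable (L M) in
/-- The pairing of cycles. -/
noncomputable def zpair (i j n : ℤ) (h : i + j = n) :
    Z L i →ₗ[A] Z M j →ₗ[A] Z (HTor.tensorCx L M) n :=
  LinearMap.mk₂ A (fun z z' => ⟨tι L M i j n h ((z : L.X i) ⊗ₜ (z' : M.X j)), tι_mem_Z i j n h z z'⟩)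
    (fun a b c => Subtype.ext (by simp [TensorProduct.add_tmul]))
    (fun r a b => Subtype.ext (by
      show tι L M i j n h ((r • (a : L.X i)) ⊗ₜ (b : M.X j)) = r • tι L M i j n h ((a : L.X i) ⊗ₜ (b : M.X j))
      rw [← TensorProduct.smul_tmul', map_smul]))
    (fun a b c => Subtype.ext (by simp [TensorProduct.tmul_add]))
    (fun r a b => Subtype.ext (by simp))

lemma zcl_zpair_bdry_left (i j n : ℤ) (h : i + j = n) (z : Z L i)
    (hz : (z : L.X i) ∈ LinearMap.range (L.d (i - 1) i).hom) (z' : Z M j) :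
    zcl _ n (zpair L M i j n h z z') = 0 := by
  obtain ⟨w, hw⟩ := hz
  refine (zcl_eq_zero_iff' _ n (n - 1) (by omega) _).2 ⟨tι L M (i - 1) j (n - 1) (by omega) (w ⊗ₜ (z' : M.X j)), ?_⟩
  have aux : ∀ (m : ℤ) (hm : m = n), (n - 1) + 1 = m →
      ((HTor.tensorCx L M).d (n - 1) m).hom (tι L M (i - 1) j (n - 1) (by omega) (w ⊗ₜ (z' : M.X j))) =
        tι L M i j m (by omega) ((z : L.X i) ⊗ₜ (z' : M.X j)) := by
    intro m _ e
    subst e
    rw [d_tι, LinearMap.mem_ker.1 z'.2, TensorProduct.tmul_zero, map_zero, smul_zero, add_zero]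
    have aux2 : ∀ (k : ℤ) (hk : k = i) (hk' : k + j = n - 1 + 1),
        tι L M k j (n - 1 + 1) hk' ((L.d (i - 1) k).hom w ⊗ₜ (z' : M.X j)) =
          tι L M i j (n - 1 + 1) (by omega) ((z : L.X i) ⊗ₜ (z' : M.X j)) := by
      rintro k rfl hk'; rw [hw]
    exact aux2 _ (by omega) _
  exact aux n rfl (by omega)

lemma zcl_zpair_bdry_right (i j n : ℤ) (h : i + j = n) (z : Z L i) (z' : Z M j)
    (hz : (z' : M.X j) ∈ LinearMap.range (M.d (j - 1) j).hom) :
    zcl _ n (zpair L M i j n h z z') = 0 := by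
  obtain ⟨w, hw⟩ := hz
  refine (zcl_eq_zero_iff' _ n (n - 1) (by omega) _).2 ⟨sgn i • tι L M i (j - 1) (n - 1) (by omega) ((z : L.X i) ⊗ₜ w), ?_⟩
  have aux : ∀ (m : ℤ) (hm : m = n), (n - 1) + 1 = m →
      ((HTor.tensorCx L M).d (n - 1) m).hom (sgn i • tι L M i (j - 1) (n - 1) (by omega) ((z : L.X i) ⊗ₜ w)) =
        tι L M i j m (by omega) ((z : L.X i) ⊗ₜ (z' : M.X j)) := by
    intro m _ e
    subst e
    rw [map_zsmul, d_tι, LinearMap.mem_ker.1 z.2, TensorProduct.zero_tmul, map_zero, zero_add,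
      sgn_smul_sgn_smul]
    have aux2 : ∀ (k : ℤ) (hk : k = j) (hk' : i + k = n - 1 + 1),
        tι L M i k (n - 1 + 1) hk' ((z : L.X i) ⊗ₜ (M.d (j - 1) k).hom w) =
          tι L M i j (n - 1 + 1) (by omega) ((z : L.X i) ⊗ₜ (z' : M.X j)) := by
      rintro k rfl hk'; rw [hw]
    exact aux2 _ (by omega) _
  exact aux n rfl (by omega)

variable (L M) in
/-- The Künneth pairing on homology. -/
noncomputable def kun (i j n : ℤ) (h : i + j = n) :
    L.homology i →ₗ[A] M.homology j →ₗ[A] (HTor.tensorCx L M).homology n :=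
  LinearMap.flip <| zdesc M j
    (LinearMap.flip <| zdesc L i
      ((LinearMap.llcomp A (Z M j) _ _ (zcl (HTor.tensorCx L M) n)).comp (zpair L M i j n h))
      (fun z hz => LinearMap.ext fun z' => zcl_zpair_bdry_left i j n h z hz z'))
    (fun z' hz' => LinearMap.ext fun a => by
      obtain ⟨z, rfl⟩ := zcl_surjective L i a
      simpa using zcl_zpair_bdry_right i j n h z z' hz')

lemma kun_zcl (i j n : ℤ) (h : i + j = n) (z : Z L i) (z' : Z M j) :
    kun L M i j n h (zcl L i z) (zcl M j z') = zcl _ n (zpair L M i j n h z z') := by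
  simp [kun]

variable (L M) in
/-- The Künneth map. -/
noncomputable def kunneth (n : ℤ) : HTor.KunnethSum L M n →ₗ[A] (HTor.tensorCx L M).homology n :=
  DirectSum.toModule A (HTor.Antidiag n) _ fun ij => TensorProduct.lift (kun L M ij.1.1 ij.1.2 n ij.2)

variable (L M) in
lemma isKunnethMap_kunneth (n : ℤ) : HTor.IsKunnethMap L M n (kunneth L M n) := by
  intro ij z z' w hw
  rw [kunneth, DirectSum.toModule_lof, TensorProduct.lift.tmul]
  rw [show (ModuleCat.Hom.hom (L.homologyπ ij.1.1)) z = _ from homologyπ_eq_zcl L _ z,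
    show (ModuleCat.Hom.hom (M.homologyπ ij.1.2)) z' = _ from homologyπ_eq_zcl M _ z',
    show (ModuleCat.Hom.hom ((HTor.tensorCx L M).homologyπ n)) w = _ from homologyπ_eq_zcl _ _ w, kun_zcl]
  exact congrArg _ (Subtype.ext hw.symm)

end Groth.Agent.KunnethLib
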