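import Groth.Agent.KunnethLib.Cover
import Mathlib.RingTheory.Flat.Basic

/-!
# The kernel of `H(L ⊗ M) ⟶ H(L ⊗ Next M)`
-/

set_option autoImplicit false

universe u

open CategoryTheory CategoryTheory.Limits
open scoped TensorProduct DirectSum

namespace Groth.Agent.KunnethLib

variable {A : Type u} [CommRing A] (L M : DRing.Cx A)

/-- The sums `⊕ H^i(L) ⊗ P^k` over `i + k = n`. -/
abbrev PsiSrc (n : ℤ) : Type u :=
  ⨁ ik : HTor.Antidiag n, (L.homology ik.1.1 ⊗[A] FP M ik.1.2)

/-- The edge map on one summand. -/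
noncomputable def psi (i k n N : ℤ) (h : i + k = n) (hN : n + 1 = N) :
    (L.homology i ⊗[A] FP M k) →ₗ[A] (HTor.tensorCx L M).homology N :=
  TensorProduct.lift (kun L M i (k + 1) N (by omega)) ∘ₗ (pc M k (k + 1) rfl).lTensor _

lemma psi_tmul (i k n N : ℤ) (h : i + k = n) (hN : n + 1 = N) (z : Z L i) (x : FP M k) :
    psi L M i k n N h hN (zcl L i z ⊗ₜ x) =
      zcl _ N (zpair L M i (k + 1) N (by omega) z (φ M k x)) := by
  simp [psi, pc_rfl, kun_zcl]

/-- The edge map. -/
noncomputable def psiTot (n N : ℤ) (hN : n + 1 = N) :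
    PsiSrc L M n →ₗ[A] (HTor.tensorCx L M).homology N :=
  DirectSum.toModule A (HTor.Antidiag n) _ fun ik => psi L M ik.1.1 ik.1.2 n N ik.2 hN

lemma psiTot_lof (n N : ℤ) (hN : n + 1 = N) (ik : HTor.Antidiag n)
    (e : L.homology ik.1.1 ⊗[A] FP M ik.1.2) :
    psiTot L M n N hN (DirectSum.lof A (HTor.Antidiag n)
      (fun ik => L.homology ik.1.1 ⊗[A] FP M ik.1.2) ik e) = psi L M ik.1.1 ik.1.2 n N ik.2 hN e :=
  DirectSum.toModule_lof _ _ _

/-- The map on `H(L ⊗ -)` induced by the inclusion. -/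
noncomputable def gH (N : ℤ) : (HTor.tensorCx L M).homology N →ₗ[A] (HTor.tensorCx L (Next M)).homology N :=
  (HomologicalComplex.homologyMap (HomologicalComplex.tensorHom (𝟙 L) (inc M)) N).hom

/-- The chain-level map induced by the inclusion. -/
noncomputable def incT (n : ℤ) : (HTor.tensorCx L M).X n →ₗ[A] (HTor.tensorCx L (Next M)).X n :=
  ((HomologicalComplex.tensorHom (𝟙 L) (inc M)).f n).hom

lemma incT_tι (i j n : ℤ) (h : i + j = n) (x : L.X i) (y : M.X j) :
    incT L M n (tι L M i j n h (x ⊗ₜ y)) = tι L (Next M) i j n h (x ⊗ₜ mkN M j (y, 0)) :=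
  tensorHom_tι L (inc M) i j n h x y

/-- The free component of a chain of `L ⊗ Next M`. -/
noncomputable def pr (i k n : ℤ) (h : i + k = n) :
    (HTor.tensorCx L (Next M)).X n →ₗ[A] (L.X i ⊗[A] FP M k) :=
  (sndN M k).lTensor _ ∘ₗ tproj L (Next M) i k n h

lemma pr_incT (i k n : ℤ) (h : i + k = n) (x : (HTor.tensorCx L M).X n) :
    pr L M i k n h (incT L M n x) = 0 := by
  have : pr L M i k n h ∘ₗ incT L M n = 0 := by
    refine tι_ext fun i' j' h' a b => ?_
    rw [LinearMap.comp_apply, incT_tι, pr, LinearMap.comp_apply, LinearMap.zero_apply]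
    by_cases hi : i' = i
    · subst hi
      obtain rfl : j' = k := by omega
      simp
    · rw [tproj_tι_ne _ _ _ _ _ _ _ hi, map_zero]
  exact LinearMap.congr_fun this x

lemma pr_d (i k n : ℤ) (h : i + k = n + 1) (x : (HTor.tensorCx L (Next M)).X n) :
    pr L M i k (n + 1) h (((HTor.tensorCx L (Next M)).d n (n + 1)).hom x) =
      (L.d (i - 1) i).hom.rTensor (FP M k) (pr L M (i - 1) k n (by omega) x) := by
  rw [pr, LinearMap.comp_apply, tproj_d, map_add, map_zsmul,
    ← LinearMap.comp_apply (g := ((Next M).d (k - 1) k).hom.lTensor (L.X i)), ← LinearMap.lTensor_comp,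
    show sndN M k ∘ₗ ((Next M).d (k - 1) k).hom = 0 from LinearMap.ext fun y => sndN_d M _ _ y]
  simp only [LinearMap.lTensor_zero, LinearMap.zero_apply, smul_zero, add_zero, pr, LinearMap.comp_apply]
  rw [← LinearMap.comp_apply (g := (L.d (i - 1) i).hom.rTensor _), LinearMap.lTensor_comp_rTensor,
    ← LinearMap.comp_apply (g := (sndN M k).lTensor _), LinearMap.rTensor_comp_lTensor]

/-- Tensoring the cycles of `L` with a free module. -/
noncomputable def ztens (i k : ℤ) : (Z L i ⊗[A] FP M k) →ₗ[A] (L.X i ⊗[A] FP M k) :=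
  (Z L i).subtype.rTensor _

lemma ztens_injective (i k : ℤ) : Function.Injective (ztens L M i k) :=
  Module.Flat.rTensor_preserves_injective_linearMap _ Subtype.val_injective

lemma mem_range_ztens (i k : ℤ) (v : L.X i ⊗[A] FP M k)
    (hv : (L.d i (i + 1)).hom.rTensor (FP M k) v = 0) : v ∈ LinearMap.range (ztens L M i k) :=
  LinearMap.mem_range.2 (((Module.Flat.rTensor_exact (FP M k)
    (LinearMap.exact_subtype_ker_map (L.d i (i + 1)).hom)) v).1 hv)

lemma pr_cycle_mem (i k n : ℤ) (h : i + k = n) (u : (HTor.tensorCx L (Next M)).X n)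
    (hu : (L.d i (i + 1)).hom.rTensor (FP M k) (pr L M i k n h u) = 0) :
    pr L M i k n h u ∈ LinearMap.range (ztens L M i k) := mem_range_ztens L M i k _ hu

lemma rTensor_pr_eq_zero (i k n : ℤ) (h : i + k = n) (u : (HTor.tensorCx L (Next M)).X n)
    (hu : pr L M (i + 1) k (n + 1) (by omega) (((HTor.tensorCx L (Next M)).d n (n + 1)).hom u) = 0) :
    (L.d i (i + 1)).hom.rTensor (FP M k) (pr L M i k n h u) = 0 := by
  have aux : ∀ (i' : ℤ) (hi : i' = i) (hd : i' + k = n),
      (L.d i' (i + 1)).hom.rTensor (FP M k) (pr L M i' k n hd u) =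
        (L.d i (i + 1)).hom.rTensor (FP M k) (pr L M i k n h u) := by
    rintro i' rfl hd; rfl
  rw [pr_d] at hu
  rw [← aux (i + 1 - 1) (by omega) (by omega)]
  exact hu

lemma pr_Z (i k n : ℤ) (h : i + k = n) (u : Z (HTor.tensorCx L (Next M)) n) :
    pr L M i k n h (u : (HTor.tensorCx L (Next M)).X n) ∈ LinearMap.range (ztens L M i k) := by
  refine pr_cycle_mem L M i k n h _ (rTensor_pr_eq_zero L M i k n h _ ?_)
  rw [LinearMap.mem_ker.1 u.2, map_zero]

/-- The free component of a cycle, in homology. -/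
noncomputable def rhoZ (i k n : ℤ) (h : i + k = n) :
    Z (HTor.tensorCx L (Next M)) n →ₗ[A] (L.homology i ⊗[A] FP M k) :=
  (zcl L i).rTensor _ ∘ₗ (LinearEquiv.ofInjective _ (ztens_injective L M i k)).symm.toLinearMap ∘ₗ
    LinearMap.codRestrict _ (pr L M i k n h ∘ₗ (Z (HTor.tensorCx L (Next M)) n).subtype)
      (pr_Z L M i k n h)

lemma rhoZ_eq (i k n : ℤ) (h : i + k = n) (u : Z (HTor.tensorCx L (Next M)) n)
    (w : Z L i ⊗[A] FP M k) (hw : ztens L M i k w = pr L M i k n h (u : (HTor.tensorCx L (Next M)).X n)) :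
    rhoZ L M i k n h u = (zcl L i).rTensor _ w := by
  simp only [rhoZ, LinearMap.comp_apply]
  refine congrArg _ ?_
  rw [LinearEquiv.coe_toLinearMap, LinearEquiv.symm_apply_eq]
  exact Subtype.ext hw.symm

lemma rhoZ_bdry (i k n : ℤ) (h : i + k = n) (u : Z (HTor.tensorCx L (Next M)) n)
    (hu : (u : (HTor.tensorCx L (Next M)).X n) ∈
      LinearMap.range ((HTor.tensorCx L (Next M)).d (n - 1) n).hom) : rhoZ L M i k n h u = 0 := by
  obtain ⟨n', rfl⟩ : ∃ n', n = n' + 1 := ⟨n - 1, by omega⟩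
  obtain ⟨v, hv⟩ := hu
  let dL : L.X (i - 1) →ₗ[A] Z L i :=
    LinearMap.codRestrict _ (L.d (i - 1) i).hom fun x => LinearMap.mem_ker.2 (dd L _ _ _ x)
  have key : ∀ (m : ℤ) (hm : m = n') (v : (HTor.tensorCx L (Next M)).X m),
      ((HTor.tensorCx L (Next M)).d m (n' + 1)).hom v = (u : (HTor.tensorCx L (Next M)).X (n' + 1)) →
      rhoZ L M i k (n' + 1) h u = 0 := by
    rintro m rfl v hv
    rw [rhoZ_eq L M i k _ h u (dL.rTensor _ (pr L M (i - 1) k m (by omega) v)) ?_]
    · rw [← LinearMap.comp_apply (g := dL.rTensor _), ← LinearMap.rTensor_comp,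
        show zcl L i ∘ₗ dL = 0 from LinearMap.ext fun x => (zcl_eq_zero_iff L i _).2 ⟨x, rfl⟩,
        LinearMap.rTensor_zero, LinearMap.zero_apply]
    · rw [← hv, pr_d, ztens, ← LinearMap.comp_apply (g := dL.rTensor _), ← LinearMap.rTensor_comp]
      rfl
  exact key _ (by omega) v hv

/-- The free component in homology. -/
noncomputable def rho (i k n : ℤ) (h : i + k = n) :
    (HTor.tensorCx L (Next M)).homology n →ₗ[A] (L.homology i ⊗[A] FP M k) :=
  zdesc _ n (rhoZ L M i k n h) (rhoZ_bdry L M i k n h)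

lemma rho_gH (i k n : ℤ) (h : i + k = n) (c : (HTor.tensorCx L M).homology n) :
    rho L M i k n h (gH L M n c) = 0 := by
  obtain ⟨u, rfl⟩ := zcl_surjective _ n c
  rw [gH, homologyMap_zcl, rho, zdesc_zcl, rhoZ_eq L M i k n h _ 0, map_zero]
  rw [map_zero]
  exact (pr_incT L M i k n h u).symm

lemma rho_kun_self (i j n : ℤ) (h h' : i + j = n) (z : Z L i) (w : Z (Next M) j) :
    rho L M i j n h (kun L (Next M) i j n h' (zcl L i z) (zcl _ j w)) =
      zcl L i z ⊗ₜ sndN M j (w : (Next M).X j) := by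
  rw [kun_zcl, rho, zdesc_zcl, rhoZ_eq L M i j n h _ (z ⊗ₜ sndN M j (w : (Next M).X j))]
  · rfl
  · simp [ztens, pr, zpair]

lemma rho_kun_ne (i k n : ℤ) (h : i + k = n) (i' j : ℤ) (h' : i' + j = n) (hne : i' ≠ i)
    (a : L.homology i') (c : (Next M).homology j) :
    rho L M i k n h (kun L (Next M) i' j n h' a c) = 0 := by
  obtain ⟨z, rfl⟩ := zcl_surjective L i' a
  obtain ⟨w, rfl⟩ := zcl_surjective (Next M) j c
  rw [kun_zcl, rho, zdesc_zcl, rhoZ_eq L M i k n h _ 0, map_zero]
  simp [pr, zpair, tproj_tι_ne _ _ _ _ _ _ _ hne]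

lemma rho_psi (i k i' k' n n₁ : ℤ) (h : i + k = n) (hn : n + 1 = n₁) (h' : i' + k' = n₁)
    (hk : k + 1 = k') (e : L.homology i ⊗[A] FP (Next M) k) (hi : i' = i) :
    rho L M i' k' n₁ h' (psi L (Next M) i k n n₁ h hn e) =
      hi ▸ (dlt M k k' hk).lTensor (L.homology i) e := by
  subst hi hk
  induction e with
  | zero => simp
  | add x y hx hy => rw [map_add, map_add, hx, hy, map_add]
  | tmul a x =>
    obtain ⟨z, rfl⟩ := zcl_surjective L i' a
    rw [psi_tmul, ← kun_zcl, rho_kun_self]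
    simp [dlt_rfl, φX]

lemma rho_psi_ne (i k i' k' n n₁ : ℤ) (h : i + k = n) (hn : n + 1 = n₁) (h' : i' + k' = n₁)
    (hne : i ≠ i') (e : L.homology i ⊗[A] FP (Next M) k) :
    rho L M i' k' n₁ h' (psi L (Next M) i k n n₁ h hn e) = 0 := by
  induction e with
  | zero => simp
  | add x y hx hy => rw [map_add, map_add, hx, hy, add_zero]
  | tmul a x =>
    obtain ⟨z, rfl⟩ := zcl_surjective L i a
    rw [psi_tmul, ← kun_zcl, rho_kun_ne L M i' k' n₁ h' i _ _ hne]

/-- Components of an element of `PsiSrc` hitting the image of `gH` are killed by `dlt`. -/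
lemma lTensor_dlt_component_eq_zero (n N : ℤ) (hN : n + 1 = N) (e : PsiSrc L (Next M) n)
    (c : (HTor.tensorCx L M).homology N) (he : psiTot L (Next M) n N hN e = gH L M N c)
    (ik : HTor.Antidiag n) :
    (dlt M ik.1.2 (ik.1.2 + 1) rfl).lTensor (L.homology ik.1.1) (e ik) = 0 := by
  classical
  obtain ⟨⟨i, k⟩, hik⟩ := ik
  have key : ∀ e : PsiSrc L (Next M) n,
      rho L M i (k + 1) N (by omega) (psiTot L (Next M) n N hN e) =
        (dlt M k (k + 1) rfl).lTensor (L.homology i) (e ⟨(i, k), hik⟩) := by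
    intro e
    induction e using DirectSum.induction_on with
    | zero => simp
    | add x y hx hy => rw [map_add, map_add, hx, hy, DirectSum.add_apply, map_add]
    | of ik x =>
      rw [← DirectSum.lof_eq_of A, psiTot_lof]
      obtain ⟨⟨i', k'⟩, hik'⟩ := ik
      by_cases hi : i' = i
      · subst hi
        obtain rfl : k' = k := by omega
        rw [rho_psi L M i' k' i' (k' + 1) n N hik' hN (by omega) rfl x rfl, DirectSum.lof_eq_of,
          DirectSum.of_eq_same]
      · rw [rho_psi_ne L M i' k' i (k + 1) n N hik' hN (by omega) hi, DirectSum.lof_eq_of,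
          DirectSum.of_eq_of_ne _ _ _ (fun heq => hi (congrArg (fun p : HTor.Antidiag n => p.1.1) heq).symm),
          map_zero]
  rw [← key e, he, rho_gH]

lemma gH_psiTot (n N : ℤ) (hN : n + 1 = N) (e : PsiSrc L M n) :
    gH L M N (psiTot L M n N hN e) = 0 := by
  subst hN
  induction e using DirectSum.induction_on with
  | zero => simp
  | add x y hx hy => rw [map_add, map_add, hx, hy, add_zero]
  | of ik x =>
    rw [← DirectSum.lof_eq_of A, psiTot_lof]
    obtain ⟨⟨i, k⟩, hik⟩ := ik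
    induction x with
    | zero => simp
    | add x y hx hy => rw [map_add, map_add, hx, hy, add_zero]
    | tmul a y =>
      obtain ⟨z, rfl⟩ := zcl_surjective L i a
      rw [psi_tmul, gH, homologyMap_zcl, zcl_eq_zero_iff' _ _ n rfl]
      refine ⟨sgn i • tι L (Next M) i k n hik ((z : L.X i) ⊗ₜ mkN M k (0, y)), ?_⟩
      rw [map_zsmul, d_tι, LinearMap.mem_ker.1 z.2, TensorProduct.zero_tmul, map_zero, zero_add,
        sgn_smul_sgn_smul, next_d, fstN_mkN, sndN_mkN, nextD_apply, map_zero, zero_add]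
      exact (incT_tι L M i (k + 1) (n + 1) (by omega) z (φX M k y)).symm

/-- The first component of a chain of `L ⊗ Next M`. -/
noncomputable def rM (n : ℤ) : (HTor.tensorCx L (Next M)).X n →ₗ[A] (HTor.tensorCx L M).X n :=
  tdesc fun i j h => tι L M i j n h ∘ₗ (fstN M j).lTensor (L.X i)

lemma rM_incT (n : ℤ) (x : (HTor.tensorCx L M).X n) : rM L M n (incT L M n x) = x := by
  have : rM L M n ∘ₗ incT L M n = LinearMap.id :=
    tι_ext fun i j h a b => by simp [rM, incT_tι]
  exact LinearMap.congr_fun this x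

/-- The off-diagonal part of the differential. -/
noncomputable def phiL (n : ℤ) : (HTor.tensorCx L (Next M)).X n →ₗ[A] (HTor.tensorCx L M).X (n + 1) :=
  tdesc fun i j h =>
    sgn i • (tι L M i (j + 1) (n + 1) (by omega) ∘ₗ (φX M j ∘ₗ sndN M j).lTensor (L.X i))

lemma rM_d (n : ℤ) (x : (HTor.tensorCx L (Next M)).X n) :
    rM L M (n + 1) (((HTor.tensorCx L (Next M)).d n (n + 1)).hom x) =
      ((HTor.tensorCx L M).d n (n + 1)).hom (rM L M n x) + phiL L M n x := by
  have : rM L M (n + 1) ∘ₗ ((HTor.tensorCx L (Next M)).d n (n + 1)).hom =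
      ((HTor.tensorCx L M).d n (n + 1)).hom ∘ₗ rM L M n + phiL L M n := by
    refine tι_ext fun i j h a b => ?_
    simp only [LinearMap.comp_apply, LinearMap.add_apply, rM, phiL, d_tι, map_add, map_zsmul, tdesc_tι,
      LinearMap.lTensor_tmul, LinearMap.smul_apply, fstN_d, TensorProduct.tmul_add, smul_add]
    abel
  exact LinearMap.congr_fun this x

lemma mem_range_psiTot (n N : ℤ) (hN : n + 1 = N) (c : (HTor.tensorCx L M).homology N)
    (hc : gH L M N c = 0) : c ∈ LinearMap.range (psiTot L M n N hN) := by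
  subst hN
  obtain ⟨u, rfl⟩ := zcl_surjective _ _ c
  rw [gH, homologyMap_zcl, zcl_eq_zero_iff' _ _ n rfl] at hc
  obtain ⟨u', hu'⟩ := hc
  let W : Submodule A ((HTor.tensorCx L M).X (n + 1)) :=
    Submodule.map (Z _ (n + 1)).subtype
      (Submodule.comap (zcl _ (n + 1)) (LinearMap.range (psiTot L M n (n + 1) rfl)))
  have hd : incT L M (n + 1) (u : (HTor.tensorCx L M).X (n + 1)) =
      ((HTor.tensorCx L (Next M)).d n (n + 1)).hom u' := hu'.symm
  have hW : phiL L M n u' ∈ W := by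
    suffices u' ∈ Submodule.comap (phiL L M n) W from this
    refine tι_mem u' _ fun i k hik => ?_
    show phiL L M n (tι L (Next M) i k n hik (tproj L (Next M) i k n hik u')) ∈ W
    rw [phiL, tdesc_tι, LinearMap.smul_apply, LinearMap.comp_apply]
    refine W.smul_of_tower_mem _ ?_
    rw [LinearMap.lTensor_comp, LinearMap.comp_apply]
    obtain ⟨w, hw⟩ := pr_cycle_mem L M i k n hik u' (rTensor_pr_eq_zero L M i k n hik u' (by
      rw [← hd, pr_incT]))
    rw [show (sndN M k).lTensor (L.X i) (tproj L (Next M) i k n hik u') = pr L M i k n hik u' from rfl,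
      ← hw]
    clear hw
    induction w with
    | zero => simp
    | add x y hx hy => rw [map_add, map_add, map_add]; exact W.add_mem hx hy
    | tmul z y =>
      refine ⟨zpair L M i (k + 1) (n + 1) (by omega) z (φ M k y), ?_, rfl⟩
      exact ⟨DirectSum.lof A (HTor.Antidiag n) (fun ik => L.homology ik.1.1 ⊗[A] FP M ik.1.2)
        ⟨(i, k), hik⟩ (zcl L i z ⊗ₜ y), by rw [psiTot_lof, psi_tmul]⟩
  obtain ⟨v, hv, hvu⟩ := hW
  have hu : (u : (HTor.tensorCx L M).X (n + 1)) =
      ((HTor.tensorCx L M).d n (n + 1)).hom (rM L M n u') + phiL L M n u' := by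
    rw [← rM_d, ← hd, rM_incT]
  have h2 : zcl _ (n + 1) (u - v) = 0 := by
    refine (zcl_eq_zero_iff' _ _ n rfl _).2 ⟨rM L M n u', ?_⟩
    rw [AddSubgroupClass.coe_sub, hu, ← hvu]
    simp
  rw [map_sub, sub_eq_zero] at h2
  rw [h2]
  exact hv

end Groth.Agent.KunnethLib
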