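import Groth.Prelude.Def_HTor
import Groth.Agent.FlatCxLib.Cls
import Mathlib.LinearAlgebra.DirectSum.TensorProduct
import Mathlib.RingTheory.Flat.Basic

/-!
# Elementwise API for the tensor product of cochain complexes of modules
-/

set_option autoImplicit false

universe u

open CategoryTheory CategoryTheory.Limits MonoidalCategory
open scoped TensorProduct DirectSum

namespace Groth.Agent.KunnethLib

variable {A : Type u} [CommRing A] (L M : DRing.Cx A)

/-- The sign `(-1)^i`. -/
def sgn (i : ℤ) : ℤ := ((i.negOnePow : ℤˣ) : ℤ)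

lemma sgn_mul_self (i : ℤ) : sgn i * sgn i = 1 := by
  unfold sgn
  rw [← Units.val_mul, Int.units_mul_self, Units.val_one]

lemma sgn_smul_sgn_smul {N : Type*} [AddCommGroup N] (i : ℤ) (x : N) :
    sgn i • sgn i • x = x := by
  rw [← mul_smul, sgn_mul_self, one_smul]

lemma dd (i j k : ℤ) (x : L.X i) : (L.d j k).hom ((L.d i j).hom x) = 0 :=
  LinearMap.congr_fun (ModuleCat.hom_ext_iff.1 (L.d_comp_d i j k)) x

/-- The summand inclusion. -/
noncomputable def tι (i j n : ℤ) (h : i + j = n) :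
    (L.X i ⊗[A] M.X j) →ₗ[A] (HTor.tensorCx L M).X n :=
  (HomologicalComplex.ιTensorObj L M i j n h).hom

variable {L M}

/-- A map out of a term of the tensor product complex. -/
noncomputable def tdesc {n : ℤ} {N : Type u} [AddCommGroup N] [Module A N]
    (f : ∀ (i j : ℤ) (_ : i + j = n), (L.X i ⊗[A] M.X j) →ₗ[A] N) :
    (HTor.tensorCx L M).X n →ₗ[A] N :=
  (HomologicalComplex.mapBifunctorDesc (K₁ := L) (K₂ := M) (F := curriedTensor (ModuleCat.{u} A))
    (c := ComplexShape.up ℤ) (A := ModuleCat.of A N) fun i j h => ModuleCat.ofHom (f i j h)).hom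

@[simp]
lemma tdesc_tι {n : ℤ} {N : Type u} [AddCommGroup N] [Module A N]
    (f : ∀ (i j : ℤ) (_ : i + j = n), (L.X i ⊗[A] M.X j) →ₗ[A] N) (i j : ℤ) (h : i + j = n)
    (x : L.X i ⊗[A] M.X j) : tdesc f (tι L M i j n h x) = f i j h x :=
  ConcreteCategory.congr_hom (HomologicalComplex.ι_mapBifunctorDesc (K₁ := L) (K₂ := M)
    (F := curriedTensor (ModuleCat.{u} A)) (c := ComplexShape.up ℤ) (A := ModuleCat.of A N)
    (fun i j h => ModuleCat.ofHom (f i j h)) i j h) x

lemma tι_ext {n : ℤ} {N : Type u} [AddCommGroup N] [Module A N]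
    {f g : (HTor.tensorCx L M).X n →ₗ[A] N}
    (h : ∀ (i j : ℤ) (hij : i + j = n) (x : L.X i) (y : M.X j),
      f (tι L M i j n hij (x ⊗ₜ y)) = g (tι L M i j n hij (x ⊗ₜ y))) : f = g := by
  have e : ModuleCat.ofHom f = ModuleCat.ofHom g :=
    HomologicalComplex.mapBifunctor.hom_ext fun i j hij =>
      ModuleCat.hom_ext (TensorProduct.ext' fun x y => h i j hij x y)
  exact congrArg ModuleCat.Hom.hom e

lemma d_tι (i j n : ℤ) (h : i + j = n) (x : L.X i) (y : M.X j) :
    ((HTor.tensorCx L M).d n (n + 1)).hom (tι L M i j n h (x ⊗ₜ y)) =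
      tι L M (i + 1) j (n + 1) (by omega) ((L.d i (i + 1)).hom x ⊗ₜ y) +
        sgn i • tι L M i (j + 1) (n + 1) (by omega) (x ⊗ₜ (M.d j (j + 1)).hom y) := by
  have e : HomologicalComplex.ιTensorObj L M i j n h ≫ (HTor.tensorCx L M).d n (n + 1) =
      (L.d i (i + 1) ▷ M.X j) ≫ HomologicalComplex.ιTensorObj L M (i + 1) j (n + 1) (show (i + 1) + j = n + 1 by omega) +
        ((i.negOnePow : ℤˣ) : ℤ) • ((L.X i ◁ M.d j (j + 1)) ≫
          HomologicalComplex.ιTensorObj L M i (j + 1) (n + 1) (show i + (j + 1) = n + 1 by omega)) := by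
    change HomologicalComplex.ιMapBifunctor L M (curriedTensor (ModuleCat.{u} A)) (ComplexShape.up ℤ) i j n h ≫
      (HomologicalComplex.mapBifunctor L M (curriedTensor (ModuleCat.{u} A)) (ComplexShape.up ℤ)).d n (n + 1) = _
    rw [HomologicalComplex.mapBifunctor.d_eq, Preadditive.comp_add,
      HomologicalComplex.mapBifunctor.ι_D₁, HomologicalComplex.mapBifunctor.ι_D₂,
      HomologicalComplex.mapBifunctor.d₁_eq _ _ _ _ (show (ComplexShape.up ℤ).Rel i (i + 1) from rfl)
        j (n + 1) (show i + 1 + j = n + 1 by omega),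
      HomologicalComplex.mapBifunctor.d₂_eq _ _ _ _ i (show (ComplexShape.up ℤ).Rel j (j + 1) from rfl)
        (n + 1) (show i + (j + 1) = n + 1 by omega)]
    refine congrArg₂ (· + ·) ?_ ?_
    · exact one_smul _ _
    · exact Units.smul_def _ _
  exact ConcreteCategory.congr_hom e (x ⊗ₜ[A] y)

variable (L M) in
/-- The projection to a summand. -/
noncomputable def tproj (i j n : ℤ) (_ : i + j = n) :
    (HTor.tensorCx L M).X n →ₗ[A] (L.X i ⊗[A] M.X j) :=
  tdesc fun i' j' _ => if h : i' = i ∧ j' = j then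
    (show (L.X i' ⊗[A] M.X j') →ₗ[A] (L.X i ⊗[A] M.X j) from
      TensorProduct.map (eqToHom (congrArg L.X h.1)).hom (eqToHom (congrArg M.X h.2)).hom) else 0

@[simp]
lemma tproj_tι_self (i j n : ℤ) (h h' : i + j = n) (x : L.X i ⊗[A] M.X j) :
    tproj L M i j n h (tι L M i j n h' x) = x := by
  simp [tproj]

lemma tproj_tι_ne (i j n : ℤ) (h : i + j = n) (i' j' : ℤ) (h' : i' + j' = n) (hne : i' ≠ i)
    (x : L.X i' ⊗[A] M.X j') : tproj L M i j n h (tι L M i' j' n h' x) = 0 := by
  simp [tproj, hne]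

/-- The decomposition of a term of the tensor product complex. -/
noncomputable def toDS (n : ℤ) : (HTor.tensorCx L M).X n →ₗ[A]
    ⨁ ij : HTor.Antidiag n, (L.X ij.1.1 ⊗[A] M.X ij.1.2) :=
  tdesc fun i j h => DirectSum.lof A (HTor.Antidiag n)
    (fun ij => L.X ij.1.1 ⊗[A] M.X ij.1.2) ⟨(i, j), h⟩

lemma tproj_eq_component (i j n : ℤ) (h : i + j = n) (x : (HTor.tensorCx L M).X n) :
    tproj L M i j n h x = DirectSum.component A (HTor.Antidiag n) _ ⟨(i, j), h⟩ (toDS n x) := by
  have : tproj L M i j n h = (DirectSum.component A (HTor.Antidiag n) _ ⟨(i, j), h⟩) ∘ₗ toDS n := by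
    refine tι_ext fun i' j' h' a b => ?_
    simp only [LinearMap.comp_apply, toDS, tdesc_tι]
    by_cases hi : i' = i
    · subst hi
      obtain rfl : j' = j := by omega
      simp
    · rw [tproj_tι_ne _ _ _ _ _ _ _ hi]
      symm
      rw [DirectSum.component.of, dif_neg]
      intro e
      exact hi (congrArg (fun p : HTor.Antidiag n => p.1.1) e)
  rw [this]; rfl

lemma eq_zero_of_tproj {n : ℤ} (x : (HTor.tensorCx L M).X n)
    (h : ∀ (i j : ℤ) (hij : i + j = n), tproj L M i j n hij x = 0) : x = 0 := by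
  have e0 : toDS n x = 0 := DFinsupp.ext fun ⟨⟨i, j⟩, hij⟩ => by
    have := h i j hij
    rw [tproj_eq_component] at this
    exact this
  have e : (DirectSum.toModule A (HTor.Antidiag n) _ fun ij => tι L M ij.1.1 ij.1.2 n ij.2) ∘ₗ
      toDS n = LinearMap.id := tι_ext fun i j hij a b => by simp [toDS]
  have := LinearMap.congr_fun e x
  simpa [e0] using this.symm

lemma tι_mem {n : ℤ} (x : (HTor.tensorCx L M).X n) (S : Submodule A ((HTor.tensorCx L M).X n))
    (h : ∀ (i j : ℤ) (hij : i + j = n), tι L M i j n hij (tproj L M i j n hij x) ∈ S) : x ∈ S := by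
  classical
  have e : (DirectSum.toModule A (HTor.Antidiag n) _ fun ij => tι L M ij.1.1 ij.1.2 n ij.2) ∘ₗ
      toDS n = LinearMap.id := tι_ext fun i j hij a b => by simp [toDS]
  have h2 := LinearMap.congr_fun e x
  rw [LinearMap.comp_apply, ← DirectSum.sum_support_of (toDS n x), map_sum] at h2
  refine (congrArg (· ∈ S) h2).mp (S.sum_mem fun ij _ => ?_)
  rw [← DirectSum.lof_eq_of A, DirectSum.toModule_lof]
  have := h ij.1.1 ij.1.2 ij.2
  rw [tproj_eq_component] at this
  exact this

lemma tproj_d (i j n : ℤ) (h : i + j = n + 1) (x : (HTor.tensorCx L M).X n) :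
    tproj L M i j (n + 1) h (((HTor.tensorCx L M).d n (n + 1)).hom x) =
      (L.d (i - 1) i).hom.rTensor (M.X j) (tproj L M (i - 1) j n (by omega) x) +
        sgn i • (M.d (j - 1) j).hom.lTensor (L.X i) (tproj L M i (j - 1) n (by omega) x) := by
  have : (tproj L M i j (n + 1) h).comp ((HTor.tensorCx L M).d n (n + 1)).hom =
      (L.d (i - 1) i).hom.rTensor (M.X j) ∘ₗ tproj L M (i - 1) j n (by omega) +
        sgn i • ((M.d (j - 1) j).hom.lTensor (L.X i) ∘ₗ tproj L M i (j - 1) n (by omega)) := by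
    refine tι_ext fun i' j' h' a b => ?_
    simp only [LinearMap.comp_apply, LinearMap.add_apply, LinearMap.smul_apply, d_tι, map_add,
      map_zsmul]
    congr 1
    · by_cases hi : i' + 1 = i
      · obtain rfl : i' = i - 1 := by omega
        obtain rfl : j' = j := by omega
        have aux : ∀ (k : ℤ) (hk : k = i) (hk' : k + j' = n + 1),
            tproj L M i j' (n + 1) h (tι L M k j' (n + 1) hk' ((L.d (i - 1) k).hom a ⊗ₜ b)) =
              (L.d (i - 1) i).hom a ⊗ₜ b := by
          rintro k rfl hk'; simp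
        rw [aux _ (by omega)]
        simp
      · rw [tproj_tι_ne _ _ _ _ _ _ _ hi, tproj_tι_ne _ _ _ _ _ _ _ (by omega : i' ≠ i - 1)]
        simp
    · by_cases hi : i' = i
      · subst hi
        obtain rfl : j' = j - 1 := by omega
        have aux : ∀ (k : ℤ) (hk : k = j) (hk' : i' + k = n + 1),
            tproj L M i' j (n + 1) h (tι L M i' k (n + 1) hk' (a ⊗ₜ (M.d (j - 1) k).hom b)) =
              a ⊗ₜ (M.d (j - 1) j).hom b := by
          rintro k rfl hk'; simp
        rw [aux _ (by omega)]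
        simp
      · rw [tproj_tι_ne _ _ _ _ _ _ _ hi, tproj_tι_ne _ _ _ _ _ _ _ hi]
        simp
  exact LinearMap.congr_fun this x

variable (L) in
lemma tensorHom_tι {M' : DRing.Cx A} (g : M ⟶ M') (i j n : ℤ) (h : i + j = n) (x : L.X i) (y : M.X j) :
    ((HomologicalComplex.tensorHom (𝟙 L) g).f n).hom (tι L M i j n h (x ⊗ₜ y)) =
      tι L M' i j n h (x ⊗ₜ (g.f j).hom y) := by
  have e : HomologicalComplex.ιTensorObj L M i j n h ≫ (HomologicalComplex.tensorHom (𝟙 L) g).f n =
      (L.X i ◁ g.f j) ≫ HomologicalComplex.ιTensorObj L M' i j n h := by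
    show HomologicalComplex.ιMapBifunctor L M _ _ i j n h ≫
      (HomologicalComplex.mapBifunctorMap (𝟙 L) g _ _).f n = _
    rw [HomologicalComplex.ι_mapBifunctorMap]
    simp
  exact ConcreteCategory.congr_hom e (x ⊗ₜ[A] y)

end Groth.Agent.KunnethLib
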